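/-
The Curtis–Tits group: projection to the Steinberg group and injectivity on unipotent subgroups of
rank-two subsystems.
-/
import Cfsg.Agent.Lib.Chev.Steinberg
import Cfsg.Prelude.Def_CurtisTits

namespace CfsgLib.Chev

open Cfsg.Lie Matrix

set_option linter.dupNamespace false
set_option linter.unusedSimpArgs false
set_option maxHeartbeats 400000

variable {D : ChevalleyDatum}

namespace Chev

variable (Φ : Chev D) {F : Type*} [Field F]

/-- The roots of the subsystem of two fundamental roots. -/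
def Sub2 (i j : Fin D.rank) (r : Fin D.nroots) : Prop := ∀ k, k ≠ i → k ≠ j → Φ.V r k = 0

/-- The roots lying in some such subsystem. -/
def InR2 (r : Fin D.nroots) : Prop := ∃ i j, Φ.Sub2 i j r

theorem inRankTwo_iff (i j : Fin D.rank) (r : Fin D.nroots) :
    D.InRankTwoSub i.val j.val r.val ↔ Φ.Sub2 i j r := by
  refine ⟨fun h k hi hj => (Φ.C_eq_zero_iff r k).mp ?_, fun h => ⟨r.isLt, i.isLt, j.isLt, fun k hk hi hj => ?_⟩⟩
  · rw [← Φ.coroot_eq r k]
    exact h.2.2.2 k.val k.isLt (fun e => hi (Fin.ext e)) (fun e => hj (Fin.ext e))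
  · have := (Φ.C_eq_zero_iff r ⟨k, hk⟩).mpr (h ⟨k, hk⟩ (fun e => hi (congrArg Fin.val e))
      (fun e => hj (congrArg Fin.val e)))
    rwa [← Φ.coroot_eq r ⟨k, hk⟩] at this

theorem exists_sub2 {i j r : ℕ} (h : D.InRankTwoSub i j r) :
    ∃ (hr : r < D.nroots) (a b : Fin D.rank), a.val = i ∧ b.val = j ∧ Φ.Sub2 a b ⟨r, hr⟩ :=
  ⟨h.1, ⟨i, h.2.1⟩, ⟨j, h.2.2.1⟩, rfl, rfl, (Φ.inRankTwo_iff ⟨i, h.2.1⟩ ⟨j, h.2.2.1⟩ ⟨r, h.1⟩).mp h⟩

variable {Φ} in
theorem Sub2.symm {i j : Fin D.rank} {r : Fin D.nroots} (h : Φ.Sub2 i j r) : Φ.Sub2 j i r :=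
  fun k hj hi => h k hi hj

theorem sub2_rev {i j : Fin D.rank} {r : Fin D.nroots} (h : Φ.Sub2 i j r) : Φ.Sub2 i j r.rev :=
  fun k hi hj => by rw [Φ.V_neg, h k hi hj, neg_zero]

theorem sub2_add {i j : Fin D.rank} {r s : Fin D.nroots} (hr : Φ.Sub2 i j r) (hs : Φ.Sub2 i j s)
    (hN : Φ.N r s ≠ 0) : Φ.Sub2 i j (Φ.S r s) :=
  fun k hi hj => by rw [Φ.V_add r s hN, hr k hi hj, hs k hi hj, add_zero]

theorem sub2_refl {i j l : Fin D.rank} (hl : l = i ∨ l = j) {r : Fin D.nroots} (hr : Φ.Sub2 i j r) :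
    Φ.Sub2 i j (Φ.refl l r) := fun k hi hj => by
  rw [Φ.V_refl, hr k hi hj, if_neg (by rintro rfl; rcases hl with rfl | rfl <;> contradiction), sub_zero]

theorem sub2_p_left (i j : Fin D.rank) : Φ.Sub2 i j (Φ.p i) :=
  fun k hi _ => by rw [Φ.V_p, if_neg (Ne.symm hi)]

theorem inR2_rev {r : Fin D.nroots} (h : Φ.InR2 r) : Φ.InR2 r.rev :=
  let ⟨i, j, h⟩ := h; ⟨i, j, Φ.sub2_rev h⟩

theorem commTerms_sub2 {i j : Fin D.rank} {r s : Fin D.nroots} (hr : Φ.Sub2 i j r)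
    (hs : Φ.Sub2 i j s) {c : ℕ × ℤ × ℕ × ℕ} (hc : c ∈ D.commTerms r.val s.val) :
    ∃ h : c.1 < D.nroots, Φ.Sub2 i j ⟨c.1, h⟩ :=
  Φ.commTerms_mem (Q := fun x => Φ.Sub2 i j x) (fun hN => Φ.sub2_add hr hs hN)
    (fun _ hx hN => Φ.sub2_add hr hx hN) (fun _ hx hN => Φ.sub2_add hs hx hN) hc

/-! ### The map to the Steinberg group -/

open Classical in
/-- The generators in the Steinberg group, killed outside the rank-two subsystems. -/
noncomputable def ctFun (F : Type*) [Field F] (p : Fin D.nroots × F) : D.SteinbergGroup F :=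
  if Φ.InR2 p.1 then Φ.gx p.1 p.2 else 1

theorem ctFun_stWord (w : List (ℕ × F)) (h : ∀ p ∈ w, ∃ hp : p.1 < D.nroots, Φ.InR2 ⟨p.1, hp⟩) :
    FreeGroup.lift (Φ.ctFun F) (D.stWord w) = PresentedGroup.mk (D.steinbergRels F) (D.stWord w) := by
  induction w with
  | nil => simp [ChevalleyDatum.stWord]
  | cons p w ih =>
    obtain ⟨hp, hR⟩ := h p (by simp)
    have ih' := ih fun q hq => h q (by simp [hq])
    simp only [ChevalleyDatum.stWord, List.map_cons, List.prod_cons, map_mul] at ih' ⊢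
    rw [ih', show D.stX p.1 p.2 = FreeGroup.of (⟨p.1, hp⟩, p.2) by simp [ChevalleyDatum.stX, hp],
      FreeGroup.lift_apply_of, ctFun, if_pos hR, gx, ChevalleyDatum.stGen, ChevalleyDatum.stX,
      dif_pos hp]

theorem ctFun_stX {r : Fin D.nroots} (h : Φ.InR2 r) (t : F) :
    FreeGroup.lift (Φ.ctFun F) (D.stX r.val t) = Φ.gx r t := by
  rw [ChevalleyDatum.stX, dif_pos r.isLt, FreeGroup.lift_apply_of, ctFun, if_pos h]

theorem ctRels_lift : ∀ w ∈ D.curtisTitsRels F, FreeGroup.lift (Φ.ctFun F) w = 1 := by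
  rintro w (((⟨r, t, hr, hno, rfl⟩ | ⟨i, j, r, a, b, hij, rfl⟩) |
      ⟨i, j, r, s, t, u, h1, h2, hne, hneg, rfl⟩) | ⟨i, j, r, a, b, hij, ha, hb, rfl⟩)
  · rw [ChevalleyDatum.stX, dif_pos hr, FreeGroup.lift_apply_of, ctFun, if_neg]
    rintro ⟨a, b, h⟩
    exact hno a.val b.val ((Φ.inRankTwo_iff a b ⟨r, hr⟩).mpr h)
  · obtain ⟨hr, x, y, -, -, hsub⟩ := Φ.exists_sub2 hij
    have h : Φ.InR2 ⟨r, hr⟩ := ⟨x, y, hsub⟩
    rw [map_mul, map_mul, map_inv, mul_inv_eq_one, Φ.ctFun_stX h, Φ.ctFun_stX h, Φ.ctFun_stX h,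
      Φ.gx_add]
  · obtain ⟨hr, x, y, hx, hy, hsr⟩ := Φ.exists_sub2 h1
    obtain ⟨hs, x', y', hx', hy', hss⟩ := Φ.exists_sub2 h2
    obtain rfl : x = x' := Fin.ext (hx.trans hx'.symm)
    obtain rfl : y = y' := Fin.ext (hy.trans hy'.symm)
    have hw := Φ.ctFun_stWord (F := F) (D.commWord F r s t u) fun p hp => by
      simp only [ChevalleyDatum.commWord, List.mem_map] at hp
      obtain ⟨d, hd, rfl⟩ := hp
      obtain ⟨h, hq⟩ := Φ.commTerms_sub2 (r := ⟨r, hr⟩) (s := ⟨s, hs⟩) hsr hss hd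
      exact ⟨h, x, y, hq⟩
    simp only [map_mul, map_inv, Φ.ctFun_stX (r := ⟨r, hr⟩) ⟨x, y, hsr⟩,
      Φ.ctFun_stX (r := ⟨s, hs⟩) ⟨x, y, hss⟩, hw]
    have := PresentedGroup.one_of_mem (rels := D.steinbergRels F)
      (Or.inl (Or.inr ⟨r, s, t, u, hr, hs, hne, hneg, rfl⟩))
    simpa only [map_mul, map_inv, gx, ChevalleyDatum.stGen] using this
  · obtain ⟨hr, x, y, -, -, hsub⟩ := Φ.exists_sub2 hij
    have hn : D.neg r = (Fin.rev ⟨r, hr⟩ : Fin D.nroots).val := Φ.negIdx_eq ⟨r, hr⟩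
    have hh : ∀ c : F, FreeGroup.lift (Φ.ctFun F) (D.stH r c) =
        PresentedGroup.mk (D.steinbergRels F) (D.stH r c) := fun c => by
      refine Φ.ctFun_stWord _ fun p hp => ?_
      simp only [ChevalleyDatum.hWord, ChevalleyDatum.nWord, hn, List.cons_append, List.nil_append,
        List.mem_cons, List.not_mem_nil, or_false] at hp
      rcases hp with rfl | rfl | rfl | rfl | rfl | rfl
      exacts [⟨hr, x, y, hsub⟩, ⟨Fin.isLt _, Φ.inR2_rev ⟨x, y, hsub⟩⟩, ⟨hr, x, y, hsub⟩,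
        ⟨hr, x, y, hsub⟩, ⟨Fin.isLt _, Φ.inR2_rev ⟨x, y, hsub⟩⟩, ⟨hr, x, y, hsub⟩]
    rw [map_mul, map_mul, map_inv, hh, hh, hh, ← map_inv, ← map_mul, ← map_mul]
    exact PresentedGroup.one_of_mem (Or.inr ⟨r, a, b, hr, ha, hb, rfl⟩)

variable (F) in
/-- The map to the Steinberg group. -/
noncomputable def ctTheta : D.CurtisTitsGroup F →* D.SteinbergGroup F :=
  PresentedGroup.toGroup (f := Φ.ctFun F) Φ.ctRels_lift

/-- The generator of the Curtis–Tits group. -/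
def ctx (_Φ : Chev D) (r : Fin D.nroots) (t : F) : D.CurtisTitsGroup F :=
  PresentedGroup.mk (D.curtisTitsRels F) (D.stX r.val t)

variable (F) in
/-- The projection onto the Chevalley group. -/
noncomputable def ctProj : D.CurtisTitsGroup F →* GL D.Idx F := (Φ.proj F).comp (Φ.ctTheta F)

theorem ctTheta_ctx {r : Fin D.nroots} (h : Φ.InR2 r) (t : F) : Φ.ctTheta F (Φ.ctx r t) = Φ.gx r t := by
  rw [ctTheta, ctx, ChevalleyDatum.stX, dif_pos r.isLt]
  exact (PresentedGroup.toGroup.of _).trans (if_pos h)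

theorem ctProj_ctx {r : Fin D.nroots} (h : Φ.InR2 r) (t : F) :
    Φ.ctProj F (Φ.ctx r t) = Φ.toAlg.xg r t := by
  rw [ctProj, MonoidHom.comp_apply, Φ.ctTheta_ctx h, Φ.proj_gx]

theorem ctx_eq_one {r : Fin D.nroots} (h : ¬ Φ.InR2 r) (t : F) : Φ.ctx r t = 1 := by
  refine PresentedGroup.one_of_mem (Or.inl (Or.inl (Or.inl ⟨r.val, t, r.isLt, fun i j hij => h ?_, rfl⟩)))
  obtain ⟨_, a, b, -, -, hs⟩ := Φ.exists_sub2 hij
  exact ⟨a, b, hs⟩

theorem ctx_add {i j : Fin D.rank} {r : Fin D.nroots} (h : Φ.Sub2 i j r) (a b : F) :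
    Φ.ctx r (a + b) = Φ.ctx r a * Φ.ctx r b := by
  have := PresentedGroup.one_of_mem (rels := D.curtisTitsRels F)
    (Or.inl (Or.inl (Or.inr ⟨i.val, j.val, r.val, a, b, (Φ.inRankTwo_iff i j r).mpr h, rfl⟩)))
  rw [map_mul, map_mul, map_inv, mul_inv_eq_one] at this
  exact this.symm

theorem ctx_zero {i j : Fin D.rank} {r : Fin D.nroots} (h : Φ.Sub2 i j r) :
    Φ.ctx r (0 : F) = 1 := by
  have := Φ.ctx_add h (0 : F) 0
  rw [add_zero] at this
  exact mul_left_cancel (this.symm.trans (mul_one _).symm)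

theorem ctx_neg {i j : Fin D.rank} {r : Fin D.nroots} (h : Φ.Sub2 i j r) (t : F) :
    Φ.ctx r (-t) = (Φ.ctx r t)⁻¹ :=
  eq_inv_of_mul_eq_one_left (by rw [← Φ.ctx_add h, neg_add_cancel, Φ.ctx_zero h])

/-- The commutator relation inside a rank-two subsystem. -/
theorem ctx_comm {i j : Fin D.rank} {r s : Fin D.nroots} (hr : Φ.Sub2 i j r) (hs : Φ.Sub2 i j s)
    (hrs : s ≠ r) (hneg : s ≠ r.rev) (t u : F) :
    (Φ.ctx s u)⁻¹ * (Φ.ctx r t)⁻¹ * Φ.ctx s u * Φ.ctx r t =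
      PresentedGroup.mk (D.curtisTitsRels F) (D.stWord (D.commWord F r.val s.val t u)) := by
  have h := PresentedGroup.one_of_mem (rels := D.curtisTitsRels F) (Or.inl (Or.inr
    ⟨i.val, j.val, r.val, s.val, t, u, (Φ.inRankTwo_iff i j r).mpr hr, (Φ.inRankTwo_iff i j s).mpr hs,
      fun e => hrs (Fin.ext e), fun e => hneg (Fin.ext (e.trans (Φ.negIdx_eq r))), rfl⟩))
  rw [map_mul, map_inv, mul_inv_eq_one] at h
  simpa only [map_mul, map_inv, ctx] using h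

/-- The subgroup attached to a set of roots. -/
def ctUS (F : Type*) [Field F] (S : Fin D.nroots → Prop) : Subgroup (D.CurtisTitsGroup F) :=
  Subgroup.closure {g | ∃ r t, S r ∧ Φ.ctx r t = g}

theorem ctx_mem_ctUS {S : Fin D.nroots → Prop} {r : Fin D.nroots} (h : S r) (t : F) :
    Φ.ctx r t ∈ Φ.ctUS F S :=
  Subgroup.subset_closure ⟨r, t, h, rfl⟩

theorem ctUS_mono {S T : Fin D.nroots → Prop} (h : ∀ r, S r → T r) : Φ.ctUS F S ≤ Φ.ctUS F T :=
  Subgroup.closure_mono fun _ ⟨r, t, hr, e⟩ => ⟨r, t, h r hr, e⟩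

theorem ctUS_conj {S T : Fin D.nroots → Prop} {g : D.CurtisTitsGroup F}
    (h : ∀ r t, S r → g * Φ.ctx r t * g⁻¹ ∈ Φ.ctUS F T) :
    ∀ y ∈ Φ.ctUS F S, g * y * g⁻¹ ∈ Φ.ctUS F T := by
  have : Φ.ctUS F S ≤ (Φ.ctUS F T).comap (MulAut.conj g).toMonoidHom := by
    rw [ctUS, Subgroup.closure_le]
    rintro _ ⟨r, t, hr, rfl⟩
    exact h r t hr
  exact fun y hy => this hy

theorem ctword_mem {S : Fin D.nroots → Prop} (w : List (ℕ × F))
    (h : ∀ p ∈ w, ∃ hp : p.1 < D.nroots, S ⟨p.1, hp⟩) :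
    PresentedGroup.mk (D.curtisTitsRels F) (D.stWord w) ∈ Φ.ctUS F S := by
  rw [ChevalleyDatum.stWord, map_list_prod, List.map_map]
  refine Subgroup.list_prod_mem _ fun g hg => ?_
  obtain ⟨p, hp, rfl⟩ := List.mem_map.mp hg
  obtain ⟨hlt, hS⟩ := h p hp
  exact Φ.ctx_mem_ctUS (r := ⟨p.1, hlt⟩) hS p.2

theorem ctx_conj {i j : Fin D.rank} {S : Fin D.nroots → Prop} {r s : Fin D.nroots}
    (hr2 : Φ.Sub2 i j r) (hs2 : Φ.Sub2 i j s) (hrs : s ≠ r) (hneg : s ≠ r.rev)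
    (hs : S s) (hS : ∀ c ∈ D.commTerms r.val s.val, ∃ h : c.1 < D.nroots, S ⟨c.1, h⟩) (t u : F) :
    Φ.ctx r t * Φ.ctx s u * (Φ.ctx r t)⁻¹ ∈ Φ.ctUS F S := by
  have key : ∀ c : F, (Φ.ctx r c)⁻¹ * Φ.ctx s u * Φ.ctx r c ∈ Φ.ctUS F S := by
    intro c
    have hW : PresentedGroup.mk (D.curtisTitsRels F) (D.stWord (D.commWord F r.val s.val c u)) ∈
        Φ.ctUS F S := Φ.ctword_mem _ fun p hp => by
      simp only [ChevalleyDatum.commWord, List.mem_map] at hp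
      obtain ⟨d, hd, rfl⟩ := hp
      exact hS d hd
    rw [← Φ.ctx_comm hr2 hs2 hrs hneg] at hW
    have := Subgroup.mul_mem _ (Φ.ctx_mem_ctUS (F := F) hs u) hW
    convert this using 1
    group
  have := key (-t)
  rwa [Φ.ctx_neg hr2, inv_inv] at this

theorem ctProj_mem_US {i j : Fin D.rank} {S : Fin D.nroots → Prop}
    (hsub : ∀ r, S r → Φ.Sub2 i j r) {g : D.CurtisTitsGroup F} (h : g ∈ Φ.ctUS F S) :
    Φ.ctProj F g ∈ Φ.US F S := by
  have : Φ.ctUS F S ≤ (Φ.US F S).comap (Φ.ctProj F) := by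
    rw [ctUS, Subgroup.closure_le]
    rintro _ ⟨r, t, hr, rfl⟩
    rw [SetLike.mem_coe, Subgroup.mem_comap, Φ.ctProj_ctx ⟨i, j, hsub r hr⟩]
    exact Φ.xg_mem_US hr t
  exact this h

theorem ctUS_inj {i j : Fin D.rank} {π : Equiv.Perm (Fin D.nroots)} (hπ : π ∈ Φ.W) {S : Fin D.nroots → Prop}
    (hcl : Φ.Closed S) (hsub : ∀ r, S r → Φ.Sub2 i j r) (hpos : ∀ r, S r → Φ.toTables.Pos (π r)) :
    ∀ g ∈ Φ.ctUS F S, Φ.ctProj F g = 1 → g = 1 := by
  classical
  induction hn : (Finset.univ.filter S).card using Nat.strong_induction_on generalizing S with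
  | _ k ih =>
    by_cases hne : ∃ r, S r
    swap
    · intro g hg _
      have : Φ.ctUS F S = ⊥ := by
        rw [eq_bot_iff, ctUS, Subgroup.closure_le]
        rintro _ ⟨r, t, hr, _⟩
        exact absurd ⟨r, hr⟩ hne
      rwa [this, Subgroup.mem_bot] at hg
    obtain ⟨a, ha, hmin⟩ := (Finset.univ.filter S).exists_min_image (fun r => Φ.toTables.code (π r))
      (by obtain ⟨r, hr⟩ := hne; exact ⟨r, by simpa using hr⟩)
    simp only [Finset.mem_filter, Finset.mem_univ, true_and] at ha hmin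
    set S' : Fin D.nroots → Prop := fun r => S r ∧ r ≠ a with hS'
    have hge : ∀ r, S r → Φ.toTables.code (π a) ≤ Φ.toTables.code (π r) := hmin
    have hgt : ∀ r, S' r → Φ.toTables.code (π a) < Φ.toTables.code (π r) := fun r hr =>
      lt_of_le_of_ne (hge r hr.1) fun e => hr.2 (π.injective (Φ.code_strictMono.injective e)).symm
    have hca := Φ.code_pos (hpos a ha)
    have hsum : ∀ x y, S x → S y → Φ.N x y ≠ 0 → S' (Φ.S x y) := fun x y hx hy hN => by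
      refine ⟨hcl x y hx hy hN, fun e => ?_⟩
      have := Φ.code_W_add hπ hN
      rw [e] at this
      have := hge x hx; have := hge y hy
      omega
    have hcl' : Φ.Closed S' := fun x y hx hy hN => hsum x y hx.1 hy.1 hN
    have hnorm : ∀ c, ∀ y ∈ Φ.ctUS F S', Φ.ctx a c * y * (Φ.ctx a c)⁻¹ ∈ Φ.ctUS F S' := fun c =>
      Φ.ctUS_conj fun s v hs => by
        refine Φ.ctx_conj (hsub a ha) (hsub s hs.1) hs.2 (fun e => ?_) hs (fun d hd => Φ.commTerms_mem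
          (fun hN => hsum a s ha hs.1 hN) (fun x hx hN => hsum a x ha hx.1 hN)
          (fun x hx hN => hsum s x hs.1 hx.1 hN) hd) c v
        have h1 := hgt s hs
        rw [e, Φ.W_rev hπ, Φ.toSys.code_neg] at h1
        omega
    have hdec : ∀ g ∈ Φ.ctUS F S, ∃ c, ∃ y ∈ Φ.ctUS F S', g = Φ.ctx a c * y := by
      intro g hg
      induction hg using Subgroup.closure_induction_left with
      | one => exact ⟨0, 1, one_mem _, by rw [Φ.ctx_zero (hsub a ha), one_mul]⟩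
      | mul_left x hx y _ ih' =>
        obtain ⟨r, t, hr, rfl⟩ := hx
        obtain ⟨c, y', hy', rfl⟩ := ih'
        by_cases hra : r = a
        · subst hra; exact ⟨t + c, y', hy', by rw [Φ.ctx_add (hsub r hr), mul_assoc]⟩
        · have hz : (Φ.ctx a c)⁻¹ * Φ.ctx r t * Φ.ctx a c ∈ Φ.ctUS F S' := by
            have := hnorm (-c) _ (Φ.ctx_mem_ctUS (show S' r from ⟨hr, hra⟩) t)
            rwa [Φ.ctx_neg (hsub a ha), inv_inv] at this
          exact ⟨c, _, mul_mem hz hy', by group⟩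
      | inv_mul_cancel x hx y _ ih' =>
        obtain ⟨r, t, hr, rfl⟩ := hx
        obtain ⟨c, y', hy', rfl⟩ := ih'
        by_cases hra : r = a
        · subst hra; exact ⟨-t + c, y', hy', by rw [Φ.ctx_add (hsub r hr), Φ.ctx_neg (hsub r hr), mul_assoc]⟩
        · have hz : (Φ.ctx a c)⁻¹ * (Φ.ctx r t)⁻¹ * Φ.ctx a c ∈ Φ.ctUS F S' := by
            have := hnorm (-c) _ (inv_mem (Φ.ctx_mem_ctUS (show S' r from ⟨hr, hra⟩) t))
            rwa [Φ.ctx_neg (hsub a ha), inv_inv] at this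
          exact ⟨c, _, mul_mem hz hy', by group⟩
    intro g hg h1
    obtain ⟨c, y, hy, rfl⟩ := hdec g hg
    rw [map_mul, Φ.ctProj_ctx ⟨i, j, hsub a ha⟩] at h1
    obtain ⟨n, hn', hm⟩ := Φ.exists_N_of_W (F := F) hπ
    have hc : c = 0 := by
      obtain ⟨k', hk', hconj, -⟩ := hm.1 a
      have hmem : Φ.toAlg.xg (π a) (k' * c) ∈ Φ.US F (fun x => Φ.toTables.code (π a) + 1 ≤ 1 * Φ.toTables.code x) := by
        rw [← hconj, eq_inv_of_mul_eq_one_left h1]
        refine Φ.map_US_le hm (S := S') (fun r hr => ?_) _ (inv_mem (Φ.ctProj_mem_US (fun r hr => hsub r hr.1) hy))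
        have := hgt r hr; omega
      have h0 := Φ.eq_zero_of_xg_mem (b := Φ.toTables.code (π a) + 1) (by omega) (hpos a ha) (by omega)
        (Φ.US_le_raise 1 _ (by omega) (fun x hx => hx) hmem)
      exact (mul_eq_zero.mp h0).resolve_left hk'
    rw [hc, Φ.toAlg.xg_zero, one_mul] at h1
    have hy1 : y = 1 := by
      refine ih _ ?_ hcl' (fun r hr => hsub r hr.1) (fun r hr => hpos r hr.1) rfl y hy h1
      rw [← hn]
      refine Finset.card_lt_card ⟨fun r hr => ?_, fun h => ?_⟩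
      · simp only [Finset.mem_filter, Finset.mem_univ, true_and] at hr ⊢; exact hr.1
      · have := h (show a ∈ Finset.univ.filter S by simpa using ha)
        simp [hS'] at this
    rw [hc, hy1, Φ.ctx_zero (hsub a ha), one_mul]

end Chev

end CfsgLib.Chev
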