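/-
Curtis–Tits: the elements `n_i(t)` act on the root elements of a rank-two subsystem as their images do.
-/
import Cfsg.Agent.Lib.ChevCT.Basic

namespace CfsgLib.Chev

open Cfsg.Lie Matrix

set_option linter.dupNamespace false
set_option linter.unusedSimpArgs false
set_option linter.unusedVariables false
set_option maxHeartbeats 600000

variable {D : ChevalleyDatum}

namespace Chev

variable (Φ : Chev D) {F : Type*} [Field F]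

theorem sub2_self_rev {i j : Fin D.rank} {r : Fin D.nroots} (h : Φ.Sub2 i j r.rev) : Φ.Sub2 i j r := by
  have := Φ.sub2_rev h
  rwa [Fin.rev_rev] at this

/-- The subgroup of a pair of opposite roots. -/
def ctPair (F : Type*) [Field F] (r : Fin D.nroots) : Subgroup (D.CurtisTitsGroup F) :=
  Φ.ctUS F fun x => x = r ∨ x = r.rev

/-- An element of an oriented unipotent subgroup of a rank-two subsystem is determined by its image. -/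
theorem eq_ctx_of_proj {i j : Fin D.rank} {π : Equiv.Perm (Fin D.nroots)} (hπ : π ∈ Φ.W)
    {g : D.CurtisTitsGroup F} (hg : g ∈ Φ.ctUS F fun x => Φ.Sub2 i j x ∧ Φ.toTables.Pos (π x))
    {s : Fin D.nroots} (hs : Φ.Sub2 i j s) {u : F}
    (h : Φ.ctProj F g = Φ.toAlg.xg s u) : g = Φ.ctx s u := by
  set T : Fin D.nroots → Prop := fun x => Φ.Sub2 i j x ∧ Φ.toTables.Pos (π x)
  have hcl : Φ.Closed T := fun x y hx hy hN => by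
    refine ⟨Φ.sub2_add hx.1 hy.1 hN, ?_⟩
    rw [← Φ.code_pos_iff, Φ.code_W_add hπ hN]
    have := Φ.code_pos hx.2; have := Φ.code_pos hy.2; omega
  have hgx : Φ.ctx s u ∈ Φ.ctUS F T := by
    by_cases hu : u = 0
    · rw [hu, Φ.ctx_zero hs]; exact one_mem _
    refine Φ.ctx_mem_ctUS (S := T) ⟨hs, ?_⟩ u
    by_contra hneg
    obtain ⟨n, hn, hm⟩ := Φ.exists_N_of_W (F := F) hπ
    obtain ⟨k, hk, hconj, -⟩ := hm.1 s
    have h2 : Φ.toAlg.xg (π s) (k * u) ∈ D.borelSubgroup F ⊓ D.negUnipotent F := by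
      refine Subgroup.mem_inf.2 ⟨?_, ?_⟩
      · rw [← hconj, ← h]
        refine Subgroup.mem_sup_left ?_
        rw [Φ.posUnipotent_eq_US]
        exact Φ.map_US_le hm (S := T) (fun r hr => hr.2) _ (Φ.ctProj_mem_US (fun r hr => hr.1) hg)
      · rw [Φ.negUnipotent_eq_US]; exact Φ.xg_mem_US (S := fun r => ¬ Φ.toTables.Pos r) hneg _
    rw [Φ.B_inf_V, Subgroup.mem_bot, Φ.toAlg.xg_eq_one_iff] at h2
    exact mul_ne_zero hk hu h2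
  have := Φ.ctUS_inj hπ hcl (fun r hr => hr.1) (fun r hr => hr.2) _ (mul_mem hg (inv_mem hgx))
    (by rw [map_mul, map_inv, Φ.ctProj_ctx ⟨i, j, hs⟩, h, mul_inv_cancel])
  exact mul_inv_eq_one.mp this

/-- Inside a rank-two subsystem, conjugates of root elements by the subgroup of `±r` are determined by
their images. -/
theorem ct_lift_conj {i j : Fin D.rank} {r s : Fin D.nroots} (hr2 : Φ.Sub2 i j r) (hs2 : Φ.Sub2 i j s)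
    (h1 : s ≠ r) (h2 : s ≠ r.rev) {g : D.CurtisTitsGroup F} (hg : g ∈ Φ.ctPair F r) {u : F}
    {s' : Fin D.nroots} (hs' : Φ.Sub2 i j s') {u' : F}
    (h : Φ.ctProj F g * Φ.toAlg.xg s u * (Φ.ctProj F g)⁻¹ = Φ.toAlg.xg s' u') :
    g * Φ.ctx s u * g⁻¹ = Φ.ctx s' u' := by
  obtain ⟨π, hπ, a, ha⟩ := Φ.exists_to_simple r
  obtain ⟨w, hw, hlong⟩ := Φ.exists_longest
  obtain ⟨σ, hσ, hor, hsS⟩ : ∃ σ : ℤ, (σ = 1 ∨ σ = -1) ∧
      (∃ π' ∈ Φ.W, ∀ x, (∃ k, k ≠ a ∧ 0 < σ * Φ.V (π x) k) → Φ.toTables.Pos (π' x)) ∧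
      ∃ k, k ≠ a ∧ 0 < σ * Φ.V (π s) k := by
    have hs1 : π s ≠ Φ.p a := fun e => h1 (π.injective (e.trans ha.symm))
    have hs2' : π s ≠ (Φ.p a).rev := fun e => h2 (π.injective (by rw [Φ.W_rev hπ, ha, e]))
    by_cases hp : Φ.toTables.Pos (π s)
    · refine ⟨1, Or.inl rfl, ⟨π, hπ, fun x ⟨k, _, hx⟩ => ?_⟩, ?_⟩
      · by_contra hn; have := Φ.V_nonpos _ hn k; omega
      · obtain ⟨k, hk, hv⟩ := Φ.V_supp _ hp a hs1
        exact ⟨k, hk, by omega⟩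
    · refine ⟨-1, Or.inr rfl, ⟨w * π, mul_mem hw hπ, fun x ⟨k, _, hx⟩ => ?_⟩, ?_⟩
      · rw [Equiv.Perm.mul_apply, hlong]
        intro hp'; have := Φ.V_nonneg _ hp' k; omega
      · have hp' := (Φ.pos_rev_iff _).mpr hp
        obtain ⟨k, hk, hv⟩ := Φ.V_supp _ hp' a (fun e => hs2' (by rw [← e, Fin.rev_rev]))
        rw [Φ.V_neg (π s)] at hv
        exact ⟨k, hk, by omega⟩
  set S : Fin D.nroots → Prop := fun x => Φ.Sub2 i j x ∧ ∃ k, k ≠ a ∧ 0 < σ * Φ.V (π x) k with hS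
  have hVadd : ∀ x y, Φ.N x y ≠ 0 → ∀ k, Φ.V (π (Φ.S x y)) k = Φ.V (π x) k + Φ.V (π y) k := by
    intro x y hN k
    rw [Φ.W_lin hπ (Φ.S x y), Φ.W_lin hπ x, Φ.W_lin hπ y, ← Finset.sum_add_distrib]
    exact Finset.sum_congr rfl fun l _ => by rw [Φ.V_add x y hN]; ring
  have hsign : ∀ x, S x → ∀ l, 0 ≤ σ * Φ.V (π x) l := by
    rintro x ⟨-, k, _, hk⟩ l
    by_cases hp : Φ.toTables.Pos (π x)
    · have := Φ.V_nonneg _ hp l; have := Φ.V_nonneg _ hp k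
      rcases hσ with rfl | rfl <;> omega
    · have := Φ.V_nonpos _ hp l; have := Φ.V_nonpos _ hp k
      rcases hσ with rfl | rfl <;> omega
  have hzero : ∀ x, (x = r ∨ x = r.rev) → ∀ k, k ≠ a → Φ.V (π x) k = 0 := by
    rintro x (rfl | rfl) k hk
    · rw [ha, Φ.V_p, if_neg (Ne.symm hk)]
    · rw [Φ.W_rev hπ, ha, Φ.V_neg (Φ.p a), Φ.V_p, if_neg (Ne.symm hk), neg_zero]
  have hsub : ∀ x, (x = r ∨ x = r.rev) → Φ.Sub2 i j x := by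
    rintro x (rfl | rfl)
    · exact hr2
    · exact Φ.sub2_rev hr2
  have key : ∀ b, (b = r ∨ b = r.rev) → ∀ c : F, ∀ y ∈ Φ.ctUS F S,
      Φ.ctx b c * y * (Φ.ctx b c)⁻¹ ∈ Φ.ctUS F S := by
    intro b hb c
    refine Φ.ctUS_conj fun x v hx => ?_
    obtain ⟨hx2, k, hk, hxk⟩ := hx
    have hb0 := hzero b hb k hk
    have hb2 := hsub b hb
    refine Φ.ctx_conj hb2 hx2 (fun e => ?_) (fun e => ?_) (S := S) ⟨hx2, k, hk, hxk⟩ (fun d hd => Φ.commTerms_mem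
      (fun hN => ⟨Φ.sub2_add hb2 hx2 hN, k, hk, by rw [hVadd _ _ hN, hb0]; simpa using hxk⟩)
      (fun y hy hN => by
        obtain ⟨hy2, l, hl, hyl⟩ := hy
        exact ⟨Φ.sub2_add hb2 hy2 hN, l, hl, by rw [hVadd _ _ hN, hzero b hb l hl]; simpa using hyl⟩)
      (fun y hy hN => by
        obtain ⟨hy2, l, hl, hyl⟩ := hy
        refine ⟨Φ.sub2_add hx2 hy2 hN, l, hl, ?_⟩
        have := hsign x ⟨hx2, k, hk, hxk⟩ l
        rw [hVadd _ _ hN, mul_add]; omega) hd) c v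
    · rw [e, hb0, mul_zero] at hxk; omega
    · rw [e, Φ.W_rev hπ, Φ.V_neg (π b), hb0, neg_zero, mul_zero] at hxk; omega
  have hnorm : ∀ g ∈ Φ.ctPair F r, ∀ y ∈ Φ.ctUS F S, g * y * g⁻¹ ∈ Φ.ctUS F S := by
    intro g hg
    induction hg using Subgroup.closure_induction_left with
    | one => intro y hy; simpa using hy
    | mul_left x hx z _ ih =>
      obtain ⟨b, c, hb, rfl⟩ := hx
      intro y hy
      rw [show Φ.ctx b c * z * y * (Φ.ctx b c * z)⁻¹ = Φ.ctx b c * (z * y * z⁻¹) * (Φ.ctx b c)⁻¹ by group]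
      exact key b hb c _ (ih y hy)
    | inv_mul_cancel x hx z _ ih =>
      obtain ⟨b, c, hb, rfl⟩ := hx
      intro y hy
      rw [← Φ.ctx_neg (hsub b hb),
        show Φ.ctx b (-c) * z * y * (Φ.ctx b (-c) * z)⁻¹ = Φ.ctx b (-c) * (z * y * z⁻¹) * (Φ.ctx b (-c))⁻¹ by group]
      exact key b hb (-c) _ (ih y hy)
  obtain ⟨π', hπ', hpos⟩ := hor
  refine Φ.eq_ctx_of_proj hπ' (Φ.ctUS_mono (S := S) (fun x hx => ⟨hx.1, hpos x hx.2⟩)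
    (hnorm g hg _ (Φ.ctx_mem_ctUS (S := S) ⟨hs2, hsS⟩ u))) hs' ?_
  rw [map_mul, map_mul, map_inv, Φ.ctProj_ctx ⟨i, j, hs2⟩, h]

/-- The element `n_r(t)`. -/
def cnr (r : Fin D.nroots) (t : Fˣ) : D.CurtisTitsGroup F :=
  Φ.ctx r (t : F) * Φ.ctx r.rev (-(t : F)⁻¹) * Φ.ctx r (t : F)

theorem cnr_proj {r : Fin D.nroots} (h : Φ.InR2 r) (t : Fˣ) : Φ.ctProj F (Φ.cnr r t) = Φ.nw r t := by
  simp only [cnr, map_mul, Φ.ctProj_ctx h, Φ.ctProj_ctx (Φ.inR2_rev h), nw]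

theorem cnr_mem_ctPair (r : Fin D.nroots) (t : Fˣ) : Φ.cnr r t ∈ Φ.ctPair F r :=
  mul_mem (mul_mem (Φ.ctx_mem_ctUS (Or.inl rfl) _) (Φ.ctx_mem_ctUS (Or.inr rfl) _))
    (Φ.ctx_mem_ctUS (Or.inl rfl) _)

theorem cnr_neg {i j : Fin D.rank} {r : Fin D.nroots} (h : Φ.Sub2 i j r) (t : Fˣ) :
    Φ.cnr r (-t) = (Φ.cnr r t)⁻¹ := by
  simp only [cnr, Units.val_neg, inv_neg, neg_neg, Φ.ctx_neg h, Φ.ctx_neg (Φ.sub2_rev h)]
  group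

/-- `n_i(t)` moves the root elements of a rank-two subsystem through `i` as its image does. -/
theorem ct_act (hadj : Φ.Adj) (i j : Fin D.rank) (t : Fˣ) {s : Fin D.nroots} (hs : Φ.Sub2 i j s)
    {u : F} {s' : Fin D.nroots} (hs' : Φ.Sub2 i j s') {u' : F}
    (h : Φ.nw (Φ.p i) t * Φ.toAlg.xg s u * (Φ.nw (Φ.p i) t)⁻¹ = Φ.toAlg.xg s' u') :
    Φ.cnr (Φ.p i) t * Φ.ctx s u * (Φ.cnr (Φ.p i) t)⁻¹ = Φ.ctx s' u' := by
  have hpi := Φ.sub2_p_left i j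
  by_cases hcase : s ≠ Φ.p i ∧ s ≠ (Φ.p i).rev
  · exact Φ.ct_lift_conj hpi hs hcase.1 hcase.2 (Φ.cnr_mem_ctPair _ _) hs'
      (by rw [Φ.cnr_proj ⟨i, j, hpi⟩]; exact h)
  have hsi : s = Φ.p i ∨ s = (Φ.p i).rev := by tauto
  set σ := Φ.reflPerm i with hσdef
  have hm : Φ.Mono (Φ.nw (Φ.p i) t) σ := Φ.mono_nw_p i t
  by_cases hu : u = 0
  · have h1 : u' = 0 := by
      rw [hu, Φ.toAlg.xg_zero, mul_one, mul_inv_cancel] at h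
      exact (Φ.toAlg.xg_eq_one_iff).mp h.symm
    rw [hu, h1, Φ.ctx_zero hs, Φ.ctx_zero hs']; group
  obtain ⟨k, hki, hA⟩ := hadj i
  have hpi' := Φ.sub2_p_left i k
  have hpk' : Φ.Sub2 i k (Φ.p k) := Sub2.symm (Φ.sub2_p_left k i)
  have hsk : Φ.Sub2 i k s := by
    rcases hsi with e | e <;> rw [e]
    · exact hpi'
    · exact Φ.sub2_rev hpi'
  have hs'k : Φ.Sub2 i k s' := by
    obtain ⟨a, ha, h1, -⟩ := hm.1 s
    rw [h1] at h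
    obtain rfl := Φ.root_eq_of_xg_eq (mul_ne_zero ha hu) h
    rw [hσdef, Φ.reflPerm_apply]
    exact Φ.sub2_refl (Or.inl rfl) hsk
  set g := Φ.cnr (Φ.p k) (1 : Fˣ) with hgdef
  have hg : g ∈ Φ.ctPair F (Φ.p k) := Φ.cnr_mem_ctPair _ _
  have hpg : Φ.ctProj F g = Φ.nw (Φ.p k) 1 := Φ.cnr_proj ⟨i, k, hpk'⟩ _
  have hmg : Φ.Mono (Φ.ctProj F g) (Φ.reflPerm k) := by rw [hpg]; exact Φ.nw_one_mono k
  set r' := Φ.refl k s with hr'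
  have hV : Φ.V r' k ≠ 0 ∧ Φ.V r' i ≠ 0 := by
    rw [hr', Φ.V_refl, Φ.V_refl, if_pos rfl, if_neg (Ne.symm hki)]
    rcases hsi with e | e <;> rw [e]
    · simp [Φ.V_p, Ne.symm hki, hA]
    · simp [Φ.V_neg (Φ.p i), Φ.toSys.A_neg, Φ.V_p, Ne.symm hki, hA]
  have hr'k : Φ.Sub2 i k r' := Φ.sub2_refl (Or.inr rfl) hsk
  have hne1 : r' ≠ Φ.p i := fun e => hV.1 (by rw [e, Φ.V_p, if_neg (Ne.symm hki)])
  have hne2 : r' ≠ (Φ.p i).rev := fun e => hV.1 (by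
    rw [e, Φ.V_neg (Φ.p i), Φ.V_p, if_neg (Ne.symm hki), neg_zero])
  have hne3 : r' ≠ Φ.p k := fun e => hV.2 (by rw [e, Φ.V_p, if_neg hki])
  have hne4 : r' ≠ (Φ.p k).rev := fun e => hV.2 (by
    rw [e, Φ.V_neg (Φ.p k), Φ.V_p, if_neg hki, neg_zero])
  have hki1 : Φ.p k ≠ Φ.p i := fun e => by
    have := congrArg (fun x => Φ.V x k) e
    simp [Φ.V_p, Ne.symm hki] at this
  have hki2 : Φ.p k ≠ (Φ.p i).rev := fun e => by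
    have := congrArg (fun x => Φ.V x k) e
    simp [Φ.V_p, Φ.V_neg (Φ.p i), Ne.symm hki] at this
  obtain ⟨v, hv⟩ := Mono.conj Φ hmg s u
  have hv' : Φ.ctProj F g⁻¹ * Φ.toAlg.xg r' v * (Φ.ctProj F g⁻¹)⁻¹ = Φ.toAlg.xg s u := by
    rw [map_inv, inv_inv, hr', ← Φ.reflPerm_apply, ← hv]; group
  have hsu := Φ.ct_lift_conj hpk' hr'k hne3 hne4 (inv_mem hg) hsk hv'
  rw [inv_inv] at hsu
  have hn2 : Φ.ctProj F (Φ.cnr (Φ.p i) t) = Φ.nw (Φ.p i) t := Φ.cnr_proj ⟨i, k, hpi'⟩ t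
  have hexact : ∀ a b, Φ.Sub2 i k a → a ≠ Φ.p i → a ≠ (Φ.p i).rev →
      ∃ c, Φ.cnr (Φ.p i) t * Φ.ctx a b * (Φ.cnr (Φ.p i) t)⁻¹ = Φ.ctx (σ a) c := by
    intro a b ha h1 h2
    obtain ⟨c, hc⟩ := Mono.conj Φ hm a b
    refine ⟨c, Φ.ct_lift_conj hpi' ha h1 h2 (Φ.cnr_mem_ctPair _ t) (Φ.sub2_refl (Or.inl rfl) ha) ?_⟩
    rw [hn2, hc, hσdef, Φ.reflPerm_apply]
  have hq1 : (Φ.p k).rev ≠ Φ.p i ∧ (Φ.p k).rev ≠ (Φ.p i).rev :=
    ⟨fun e => hki2 (by rw [← e, Fin.rev_rev]), fun e => hki1 (Fin.rev_injective e)⟩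
  obtain ⟨d1, hd1⟩ := hexact (Φ.p k) ((1 : Fˣ) : F) hpk' hki1 hki2
  obtain ⟨d2, hd2⟩ := hexact (Φ.p k).rev (-((1 : Fˣ) : F)⁻¹) (Φ.sub2_rev hpk') hq1.1 hq1.2
  obtain ⟨d3, hd3⟩ := hexact r' v hr'k hne1 hne2
  rw [hσdef, Φ.reflPerm_apply] at hd1
  rw [hσdef, Φ.reflPerm_apply, Φ.refl_rev] at hd2
  rw [hσdef, Φ.reflPerm_apply] at hd3
  set q := Φ.refl i (Φ.p k) with hq
  set n := Φ.cnr (Φ.p i) t with hn
  have hg' : n * g * n⁻¹ ∈ Φ.ctPair F q := by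
    rw [hgdef, cnr, show n * (Φ.ctx (Φ.p k) ((1 : Fˣ) : F) * Φ.ctx (Φ.p k).rev (-((1 : Fˣ) : F)⁻¹) *
        Φ.ctx (Φ.p k) ((1 : Fˣ) : F)) * n⁻¹ = (n * Φ.ctx (Φ.p k) ((1 : Fˣ) : F) * n⁻¹) *
        (n * Φ.ctx (Φ.p k).rev (-((1 : Fˣ) : F)⁻¹) * n⁻¹) *
        (n * Φ.ctx (Φ.p k) ((1 : Fˣ) : F) * n⁻¹) by group, hd1, hd2]
    exact mul_mem (mul_mem (Φ.ctx_mem_ctUS (Or.inl rfl) _) (Φ.ctx_mem_ctUS (Or.inr rfl) _))
      (Φ.ctx_mem_ctUS (Or.inl rfl) _)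
  set g' := n * g * n⁻¹ with hg'def
  have hinj : Function.Injective (Φ.refl i) := (Φ.reflPerm i).injective
  have key := Φ.ct_lift_conj (r := q) (s := Φ.refl i r') (Φ.sub2_refl (Or.inl rfl) hpk')
    (Φ.sub2_refl (Or.inl rfl) hr'k) (fun e => hne3 (hinj e))
    (fun e => hne4 (hinj (by rw [Φ.refl_rev]; exact e))) (inv_mem hg') (u := d3) (u' := u') hs'k (by
    rw [← Φ.ctProj_ctx ⟨i, k, Φ.sub2_refl (Or.inl rfl) hr'k⟩, ← hd3, ← h, ← hv', hg'def]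
    simp only [map_mul, map_inv, inv_inv, hn2, Φ.ctProj_ctx ⟨i, k, hr'k⟩]
    group)
  rw [← key, ← hsu, ← hd3, hg'def]
  group

theorem ct_act_mono (hadj : Φ.Adj) (i j : Fin D.rank) (t : Fˣ) {s : Fin D.nroots}
    (hs : Φ.Sub2 i j s) (u : F) :
    ∃ c, Φ.cnr (Φ.p i) t * Φ.ctx s u * (Φ.cnr (Φ.p i) t)⁻¹ = Φ.ctx (Φ.refl i s) c := by
  obtain ⟨c, hc⟩ := Mono.conj Φ (Φ.mono_nw_p i t) s u
  exact ⟨c, Φ.ct_act hadj i j t hs (Φ.sub2_refl (Or.inl rfl) hs) hc⟩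

/-- The element `n_i(1)`. -/
def cn (F : Type*) [Field F] (i : Fin D.rank) : D.CurtisTitsGroup F := Φ.cnr (Φ.p i) 1

theorem cn_proj (i : Fin D.rank) : Φ.ctProj F (Φ.cn F i) = Φ.nw (Φ.p i) 1 :=
  Φ.cnr_proj ⟨i, i, Φ.sub2_p_left i i⟩ _

theorem cn_act (hadj : Φ.Adj) {i a b : Fin D.rank} (hi : i = a ∨ i = b) {s : Fin D.nroots}
    (hs : Φ.Sub2 a b s) (u : F) :
    Φ.cn F i * Φ.ctx s u * (Φ.cn F i)⁻¹ = Φ.ctx (Φ.refl i s) ((Φ.eta i s : F) * u) := by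
  obtain ⟨j, hj⟩ : ∃ j, Φ.Sub2 i j s := by
    rcases hi with rfl | rfl
    exacts [⟨b, hs⟩, ⟨a, Sub2.symm hs⟩]
  exact Φ.ct_act hadj i j 1 hj (Φ.sub2_refl (Or.inl rfl) hj)
    (by rw [Φ.nw_conj_xg, mul_inv_cancel_right])

theorem cn_act_inv (hadj : Φ.Adj) {i a b : Fin D.rank} (hi : i = a ∨ i = b) {s : Fin D.nroots}
    (hs : Φ.Sub2 a b s) (u : F) :
    ∃ c, (Φ.cn F i)⁻¹ * Φ.ctx s u * Φ.cn F i = Φ.ctx (Φ.refl i s) c := by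
  obtain ⟨j, hj⟩ : ∃ j, Φ.Sub2 i j s := by
    rcases hi with rfl | rfl
    exacts [⟨b, hs⟩, ⟨a, Sub2.symm hs⟩]
  obtain ⟨c, hc⟩ := Φ.ct_act_mono hadj i j (-1) hj u
  rw [Φ.cnr_neg (Φ.sub2_p_left i j), inv_inv] at hc
  exact ⟨c, hc⟩

theorem cn_conj_cnr (hadj : Φ.Adj) {i a b : Fin D.rank} (hi : i = a ∨ i = b) {r : Fin D.nroots}
    (hr : Φ.Sub2 a b r) (t : Fˣ) :
    Φ.cn F i * Φ.cnr r t * (Φ.cn F i)⁻¹ = Φ.cnr (Φ.refl i r) (Φ.etaU F i r * t) := by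
  have he : ((Φ.eta i r : ℤ) : F) * ((Φ.eta i r : ℤ) : F) = 1 := by
    rcases Φ.eta_unit i r with e | e <;> simp [e]
  have h1 := Φ.cn_act hadj hi hr (t : F)
  have h2 := Φ.cn_act hadj hi (Φ.sub2_rev hr) (-(t : F)⁻¹)
  have e2 : ((Φ.eta i r.rev : ℤ) : F) * -(t : F)⁻¹ = -((Φ.etaU F i r * t : Fˣ) : F)⁻¹ := by
    rw [show ((Φ.eta i r.rev : ℤ) : F) = ((Φ.eta i r : ℤ) : F) by
        rw [← Φ.etaU_val, ← Φ.etaU_val, Φ.etaU_rev],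
      Units.val_mul, _root_.mul_inv_rev, Φ.etaU_val, inv_eq_of_mul_eq_one_right he]
    ring
  rw [e2, Φ.refl_rev] at h2
  rw [← Φ.etaU_val, ← Units.val_mul] at h1
  simp only [cnr]
  rw [← h2, ← h1]
  group

end Chev

end CfsgLib.Chev
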