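/-
Curtis–Tits: the group generated by the `n_i(1)` maps onto the Weyl group with the expected kernel,
and root elements for all roots are obtained from the fundamental ones without ambiguity.
-/
import Cfsg.Agent.Lib.ChevCT.Act
import Cfsg.Agent.Lib.Chev.CoxeterIso

namespace CfsgLib.Chev

open Cfsg.Lie Matrix

set_option linter.dupNamespace false
set_option linter.unusedSimpArgs false
set_option linter.unusedVariables false
set_option linter.unusedSectionVars false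
set_option maxHeartbeats 600000

variable {D : ChevalleyDatum}

namespace Chev

variable (Φ : Chev D) {F : Type*} [Field F]

theorem W_eq_WL : Φ.W = Φ.WL := by
  simp only [W, WL, WK, simpleRefl, Set.image_univ]

theorem mem_WL_iff {π : Equiv.Perm (Fin D.nroots)} : π ∈ Φ.WL ↔ π ∈ Φ.W := by rw [Φ.W_eq_WL]

theorem lperm_mem_W (l : List (Fin D.rank)) : Φ.lperm l ∈ Φ.W :=
  Subgroup.list_prod_mem _ fun g hg => by
    obtain ⟨i, _, rfl⟩ := List.mem_map.mp hg
    exact Φ.reflPerm_mem_W i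

theorem lperm_cons (k : Fin D.rank) (l : List (Fin D.rank)) :
    Φ.lperm (k :: l) = Φ.reflPerm k * Φ.lperm l := by simp [lperm]

theorem lperm_append (l l' : List (Fin D.rank)) : Φ.lperm (l ++ l') = Φ.lperm l * Φ.lperm l' := by
  simp [lperm]

theorem lperm_reverse (l : List (Fin D.rank)) : Φ.lperm l.reverse = (Φ.lperm l)⁻¹ := by
  induction l with
  | nil => simp [lperm]
  | cons k l ih =>
    rw [List.reverse_cons, Φ.lperm_append, ih, Φ.lperm_cons, Φ.lperm_cons]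
    simp [lperm, Φ.reflPerm_inv]

/-! ### The monomial group -/

/-- The subgroup generated by the `n_i(1)`. -/
def cN (F : Type*) [Field F] : Subgroup (D.CurtisTitsGroup F) :=
  Subgroup.closure (Set.range (Φ.cn F))

/-- The subgroup generated by their squares. -/
def cK (F : Type*) [Field F] : Subgroup (D.CurtisTitsGroup F) :=
  Subgroup.closure (Set.range fun i => Φ.cn F i * Φ.cn F i)

theorem cn_mem_cN (i : Fin D.rank) : Φ.cn F i ∈ Φ.cN F := Subgroup.subset_closure ⟨i, rfl⟩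

theorem cn_sq_mem_cK (i : Fin D.rank) : Φ.cn F i * Φ.cn F i ∈ Φ.cK F :=
  Subgroup.subset_closure ⟨i, rfl⟩

theorem cK_le_cN : Φ.cK F ≤ Φ.cN F := by
  rw [cK, Subgroup.closure_le]
  rintro _ ⟨i, rfl⟩
  exact mul_mem (Φ.cn_mem_cN i) (Φ.cn_mem_cN i)

/-- The word in the `n_i(1)`. -/
def cword (F : Type*) [Field F] (l : List (Fin D.rank)) : D.CurtisTitsGroup F := (l.map (Φ.cn F)).prod

theorem cword_cons (k : Fin D.rank) (l : List (Fin D.rank)) :
    Φ.cword F (k :: l) = Φ.cn F k * Φ.cword F l := by simp [cword]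

theorem cword_mem_cN (l : List (Fin D.rank)) : Φ.cword F l ∈ Φ.cN F :=
  Subgroup.list_prod_mem _ fun g hg => by
    obtain ⟨i, _, rfl⟩ := List.mem_map.mp hg
    exact Φ.cn_mem_cN i

theorem cword_mono (l : List (Fin D.rank)) : Φ.Mono (Φ.ctProj F (Φ.cword F l)) (Φ.lperm l) := by
  induction l with
  | nil => simp [cword, lperm]; exact Mono.one Φ
  | cons k l ih =>
    rw [Φ.cword_cons, Φ.lperm_cons, map_mul, Φ.cn_proj]
    exact Mono.mul Φ (Φ.nw_one_mono k) ih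

theorem cN_mono {g : D.CurtisTitsGroup F} (hg : g ∈ Φ.cN F) :
    Φ.ctProj F g ∈ D.monomialSubgroup F := by
  induction hg using Subgroup.closure_induction with
  | mem x hx => obtain ⟨i, rfl⟩ := hx; rw [Φ.cn_proj]; exact Φ.nw_mem_N _ _
  | one => simp
  | mul x y _ _ hx hy => rw [map_mul]; exact mul_mem hx hy
  | inv x _ hx => rw [map_inv]; exact inv_mem hx

theorem cN_exists_mono {g : D.CurtisTitsGroup F} (hg : g ∈ Φ.cN F) :
    ∃ w, w ∈ Φ.W ∧ Φ.Mono (Φ.ctProj F g) w ∧ Φ.Mono (Φ.ctProj F g⁻¹) w⁻¹ := by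
  obtain ⟨w, hw, h1, h2⟩ := Φ.exists_monoW (Φ.cN_mono hg)
  exact ⟨w, hw, h1, by rw [map_inv]; exact h2⟩

theorem cword_conj_cnr (hadj : Φ.Adj) {a b : Fin D.rank} : ∀ (l : List (Fin D.rank)),
    (∀ k ∈ l, k = a ∨ k = b) → ∀ r, Φ.Sub2 a b r →
    ∃ e : Fˣ, (e = 1 ∨ e = -1) ∧ Φ.Sub2 a b (Φ.lperm l r) ∧
      Φ.cword F l * Φ.cnr r 1 * (Φ.cword F l)⁻¹ = Φ.cnr (Φ.lperm l r) e := by
  intro l
  induction l with
  | nil => intro _ r hr; exact ⟨1, Or.inl rfl, by simpa [lperm] using hr, by simp [cword, lperm]⟩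
  | cons k l ih =>
    intro hl r hr
    obtain ⟨e, he, h2, h⟩ := ih (fun x hx => hl x (List.mem_cons_of_mem _ hx)) r hr
    have hk := hl k List.mem_cons_self
    refine ⟨Φ.etaU F k (Φ.lperm l r) * e, ?_, ?_, ?_⟩
    · rcases (show Φ.etaU F k (Φ.lperm l r) = 1 ∨ Φ.etaU F k (Φ.lperm l r) = -1 by
        unfold etaU; split_ifs <;> simp) with h1 | h1 <;> rcases he with h3 | h3 <;> simp [h1, h3]
    · rw [Φ.lperm_cons, Equiv.Perm.mul_apply, Φ.reflPerm_apply]
      exact Φ.sub2_refl hk h2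
    · rw [Φ.lperm_cons, Equiv.Perm.mul_apply, Φ.reflPerm_apply, ← Φ.cn_conj_cnr hadj hk h2, ← h,
        Φ.cword_cons]
      group

theorem cword_act (hadj : Φ.Adj) {a b : Fin D.rank} : ∀ (l : List (Fin D.rank)),
    (∀ k ∈ l, k = a ∨ k = b) → ∀ s, Φ.Sub2 a b s → ∀ u : F, ∃ c,
      (Φ.cword F l)⁻¹ * Φ.ctx s u * Φ.cword F l = Φ.ctx ((Φ.lperm l)⁻¹ s) c ∧
        Φ.Sub2 a b ((Φ.lperm l)⁻¹ s) := by
  intro l
  induction l with
  | nil => intro _ s hs u; exact ⟨u, by simp [cword, lperm], by simpa [lperm] using hs⟩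
  | cons k l ih =>
    intro hl s hs u
    have hk := hl k List.mem_cons_self
    obtain ⟨c, hc⟩ := Φ.cn_act_inv hadj hk hs u
    obtain ⟨c', hc', hs'⟩ := ih (fun x hx => hl x (List.mem_cons_of_mem _ hx)) _ (Φ.sub2_refl hk hs) c
    have e : (Φ.lperm (k :: l))⁻¹ s = (Φ.lperm l)⁻¹ (Φ.refl k s) := by
      rw [Φ.lperm_cons, _root_.mul_inv_rev, Φ.reflPerm_inv]; rfl
    rw [e]
    refine ⟨c', ?_, hs'⟩
    rw [← hc', ← hc, Φ.cword_cons]
    group

/-! ### The squares form a normal subgroup -/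

theorem cn_sq_conj (hadj : Φ.Adj) (i j : Fin D.rank) :
    Φ.cn F i * Φ.cn F i * Φ.cn F j * (Φ.cn F i * Φ.cn F i)⁻¹ = Φ.cn F j ∨
      Φ.cn F i * Φ.cn F i * Φ.cn F j * (Φ.cn F i * Φ.cn F i)⁻¹ = (Φ.cn F j)⁻¹ := by
  have hj : Φ.Sub2 i j (Φ.p j) := Sub2.symm (Φ.sub2_p_left j i)
  obtain ⟨e, he, -, h⟩ := Φ.cword_conj_cnr (F := F) hadj [i, i] (a := i) (b := j) (by simp) _ hj
  have h1 : Φ.lperm [i, i] (Φ.p j) = Φ.p j := by simp [lperm, Φ.reflPerm_apply, Φ.refl_refl]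
  rw [h1] at h
  simp only [cword, List.map_cons, List.map_nil, List.prod_cons, List.prod_nil, mul_one] at h
  rcases he with rfl | rfl
  · exact Or.inl h
  · rw [Φ.cnr_neg hj] at h; exact Or.inr h

theorem cn_conj_cK (hadj : Φ.Adj) (j : Fin D.rank) :
    ∀ x ∈ Φ.cK F, Φ.cn F j * x * (Φ.cn F j)⁻¹ ∈ Φ.cK F := by
  intro x hx
  induction hx using Subgroup.closure_induction with
  | mem x hx =>
    obtain ⟨i, rfl⟩ := hx
    dsimp only
    set T := Φ.cn F i * Φ.cn F i with hT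
    have e : Φ.cn F j * T * (Φ.cn F j)⁻¹ = Φ.cn F j * (T * Φ.cn F j * T⁻¹)⁻¹ * T := by group
    rw [e]
    rcases Φ.cn_sq_conj (F := F) hadj i j with h | h <;> rw [← hT] at h <;> rw [h]
    · rw [mul_inv_cancel, one_mul]; exact Φ.cn_sq_mem_cK i
    · rw [inv_inv]; exact mul_mem (Φ.cn_sq_mem_cK j) (Φ.cn_sq_mem_cK i)
  | one => simp
  | mul a b _ _ ha hb =>
    rw [show Φ.cn F j * (a * b) * (Φ.cn F j)⁻¹ =
      (Φ.cn F j * a * (Φ.cn F j)⁻¹) * (Φ.cn F j * b * (Φ.cn F j)⁻¹) by group]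
    exact mul_mem ha hb
  | inv a _ ha =>
    rw [show Φ.cn F j * a⁻¹ * (Φ.cn F j)⁻¹ = (Φ.cn F j * a * (Φ.cn F j)⁻¹)⁻¹ by group]
    exact inv_mem ha

theorem cK_normal (hadj : Φ.Adj) {g : D.CurtisTitsGroup F} (hg : g ∈ Φ.cN F) :
    ∀ x ∈ Φ.cK F, g * x * g⁻¹ ∈ Φ.cK F := by
  induction hg using Subgroup.closure_induction_left with
  | one => simp
  | mul_left x hx y _ ih =>
    obtain ⟨j, rfl⟩ := hx
    intro z hz
    rw [show Φ.cn F j * y * z * (Φ.cn F j * y)⁻¹ = Φ.cn F j * (y * z * y⁻¹) * (Φ.cn F j)⁻¹ by group]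
    exact Φ.cn_conj_cK hadj j _ (ih z hz)
  | inv_mul_cancel x hx y _ ih =>
    obtain ⟨j, rfl⟩ := hx
    intro z hz
    set T := Φ.cn F j * Φ.cn F j with hT
    rw [show (Φ.cn F j)⁻¹ * y * z * ((Φ.cn F j)⁻¹ * y)⁻¹ =
      Φ.cn F j * (T⁻¹ * (y * z * y⁻¹) * T) * (Φ.cn F j)⁻¹ by rw [hT]; group]
    exact Φ.cn_conj_cK hadj j _
      (mul_mem (mul_mem (inv_mem (Φ.cn_sq_mem_cK j)) (ih z hz)) (Φ.cn_sq_mem_cK j))

/-! ### The kernel -/

/-- The bonds of the diagram agree with the Coxeter matrix. -/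
def CoxOK (CM : CoxeterMatrix (Fin D.rank)) : Prop :=
  ∀ i j, i = j ∨ (CM i j = 2 ∧ Φ.refl j (Φ.p i) = Φ.p i) ∨
    (CM i j = 3 ∧ Φ.refl i (Φ.refl j (Φ.p i)) = Φ.p j) ∨
    (CM i j = 4 ∧ Φ.refl j (Φ.refl i (Φ.refl j (Φ.p i))) = Φ.p i)

/-- The Weyl group is the Coxeter group of the bonds. -/
def IsCox : Prop :=
  ∃ CM : CoxeterMatrix (Fin D.rank), Φ.CoxOK CM ∧
    ∃ e : CM.Group ≃* Φ.WL, ∀ i, (e (CM.simple i) : Equiv.Perm (Fin D.nroots)) = Φ.reflPerm i

theorem mem_cK_of_mono_one (hadj : Φ.Adj) (hcox : Φ.IsCox) {g : D.CurtisTitsGroup F}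
    (hg : g ∈ Φ.cN F) (hm : Φ.Mono (Φ.ctProj F g) 1) : g ∈ Φ.cK F := by
  obtain ⟨CM, hok, e, he⟩ := hcox
  set K' : Subgroup (Φ.cN F) := (Φ.cK F).subgroupOf (Φ.cN F) with hK'
  haveI : K'.Normal := ⟨fun x hx y => by
    rw [hK', Subgroup.mem_subgroupOf] at hx ⊢
    simpa using Φ.cK_normal hadj y.2 _ hx⟩
  let q : Φ.cN F →* (Φ.cN F) ⧸ K' := QuotientGroup.mk' K'
  let x : Fin D.rank → (Φ.cN F) ⧸ K' := fun i => q ⟨Φ.cn F i, Φ.cn_mem_cN i⟩
  have hq1 : ∀ y : Φ.cN F, (y : D.CurtisTitsGroup F) ∈ Φ.cK F → q y = 1 := fun y hy =>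
    (QuotientGroup.eq_one_iff y).mpr (Subgroup.mem_subgroupOf.mpr hy)
  have hxsq : ∀ i, x i * x i = 1 := fun i => by
    simp only [x, ← map_mul]
    exact hq1 _ (Φ.cn_sq_mem_cK i)
  have hxinv : ∀ i, (x i)⁻¹ = x i := fun i => inv_eq_of_mul_eq_one_right (hxsq i)
  have hprod : ∀ l : List (Fin D.rank),
      q ⟨Φ.cword F l, Φ.cword_mem_cN l⟩ = (l.map x).prod := by
    intro l
    induction l with
    | nil => exact hq1 _ (by simp [cword])
    | cons k l ih =>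
      rw [List.map_cons, List.prod_cons, ← ih]
      simp only [x, ← map_mul]
      exact congrArg q (Subtype.ext (Φ.cword_cons k l))
  have hbr : ∀ (a b c : Fin D.rank) (l : List (Fin D.rank)), (∀ k ∈ l, k = a ∨ k = b) →
      (c = a ∨ c = b) → Φ.lperm l (Φ.p a) = Φ.p c →
      (l.map x).prod * x a * ((l.map x).prod)⁻¹ = x c := by
    intro a b c l hl hc hp
    obtain ⟨ε, hε, -, h⟩ := Φ.cword_conj_cnr (F := F) hadj l hl _ (Φ.sub2_p_left a b)
    rw [hp] at h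
    rw [← hprod]
    simp only [x, ← map_mul, ← map_inv]
    rcases hε with rfl | rfl
    · congr 1
      exact Subtype.ext h
    · have h2 : q ⟨Φ.cn F c, Φ.cn_mem_cN c⟩ = q (⟨Φ.cn F c, Φ.cn_mem_cN c⟩ : Φ.cN F)⁻¹ := by
        rw [map_inv]; exact (hxinv c).symm
      rw [h2]
      congr 1
      refine Subtype.ext ?_
      rw [Φ.cnr_neg (Φ.sub2_p_left c c)] at h
      exact h
  have hlift : CM.IsLiftable x := fun i j => by
    rcases hok i j with rfl | ⟨hm, hp⟩ | ⟨hm, hp⟩ | ⟨hm, hp⟩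
    · rw [hxsq, one_pow]
    · rw [hm]
      have h := hbr i j i [j] (by simp) (Or.inl rfl) (by simpa [lperm, Φ.reflPerm_apply] using hp)
      simp only [List.map_cons, List.map_nil, List.prod_cons, List.prod_nil, mul_one, hxinv] at h
      calc (x i * x j) ^ 2 = x i * (x j * x i * x j) := by simp [pow_succ, mul_assoc]
        _ = 1 := by rw [h, hxsq]
    · rw [hm]
      have h := hbr i j j [i, j] (by simp) (Or.inr rfl) (by simpa [lperm, Φ.reflPerm_apply] using hp)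
      simp only [List.map_cons, List.map_nil, List.prod_cons, List.prod_nil, mul_one,
        _root_.mul_inv_rev, hxinv] at h
      calc (x i * x j) ^ 3 = (x i * x j * x i * (x j * x i)) * x j := by simp [pow_succ, mul_assoc]
        _ = 1 := by rw [h, hxsq]
    · rw [hm]
      have h := hbr i j i [j, i, j] (by simp) (Or.inl rfl)
        (by simpa [lperm, Φ.reflPerm_apply] using hp)
      simp only [List.map_cons, List.map_nil, List.prod_cons, List.prod_nil, mul_one,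
        _root_.mul_inv_rev, hxinv] at h
      calc (x i * x j) ^ 4 = x i * (x j * (x i * x j) * x i * (x j * x i * x j)) := by
            simp [pow_succ, mul_assoc]
        _ = 1 := by rw [h, hxsq]
  let f : CM.Group →* (Φ.cN F) ⧸ K' := CM.toCoxeterSystem.lift ⟨x, hlift⟩
  have hf : ∀ i, f (CM.simple i) = x i := fun i => by
    rw [← CoxeterMatrix.toCoxeterSystem_simple]
    exact CoxeterSystem.lift_apply_simple _ _ _
  obtain ⟨pp, hpp⟩ : ∃ pp : Φ.cN F →* Equiv.Perm (Fin D.nroots),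
      ∀ y : Φ.cN F, Φ.Mono (Φ.ctProj F y) (pp y) := by
    refine ⟨{ toFun := fun y => (Φ.cN_exists_mono y.2).choose, map_one' := ?_, map_mul' := ?_ },
      fun y => (Φ.cN_exists_mono y.2).choose_spec.2.1⟩
    · refine Mono.unique Φ (Φ.cN_exists_mono (1 : Φ.cN F).2).choose_spec.2.1 ?_
      rw [Subgroup.coe_one, map_one]; exact Mono.one Φ
    · intro a b
      refine Mono.unique Φ (Φ.cN_exists_mono (a * b : Φ.cN F).2).choose_spec.2.1 ?_
      rw [Subgroup.coe_mul, map_mul]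
      exact Mono.mul Φ (Φ.cN_exists_mono a.2).choose_spec.2.1 (Φ.cN_exists_mono b.2).choose_spec.2.1
  have hppcn : ∀ i, pp ⟨Φ.cn F i, Φ.cn_mem_cN i⟩ = Φ.reflPerm i := fun i =>
    Mono.unique Φ (hpp _) (by
      show Φ.Mono (Φ.ctProj F (Φ.cn F i)) _
      rw [Φ.cn_proj]; exact Φ.nw_one_mono i)
  have hpK : K' ≤ pp.ker := by
    intro y hy
    rw [hK', Subgroup.mem_subgroupOf] at hy
    have : ∀ z ∈ Φ.cK F, ∃ hz : z ∈ Φ.cN F, pp ⟨z, hz⟩ = 1 := by
      intro z hz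
      induction hz using Subgroup.closure_induction with
      | mem z hz =>
        obtain ⟨i, rfl⟩ := hz
        refine ⟨mul_mem (Φ.cn_mem_cN i) (Φ.cn_mem_cN i), ?_⟩
        rw [show (⟨Φ.cn F i * Φ.cn F i, mul_mem (Φ.cn_mem_cN i) (Φ.cn_mem_cN i)⟩ : Φ.cN F) =
          ⟨Φ.cn F i, Φ.cn_mem_cN i⟩ * ⟨Φ.cn F i, Φ.cn_mem_cN i⟩ from rfl, map_mul, hppcn,
          Φ.reflPerm_mul_self]
      | one => exact ⟨one_mem _, map_one pp⟩
      | mul a b _ _ ha hb =>
        obtain ⟨ha, ha'⟩ := ha; obtain ⟨hb, hb'⟩ := hb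
        refine ⟨mul_mem ha hb, ?_⟩
        rw [show (⟨a * b, mul_mem ha hb⟩ : Φ.cN F) = ⟨a, ha⟩ * ⟨b, hb⟩ from rfl, map_mul, ha', hb',
          one_mul]
      | inv a _ ha =>
        obtain ⟨ha, ha'⟩ := ha
        refine ⟨inv_mem ha, ?_⟩
        rw [show (⟨a⁻¹, inv_mem ha⟩ : Φ.cN F) = ⟨a, ha⟩⁻¹ from rfl, map_inv, ha', _root_.inv_one]
    obtain ⟨_, h⟩ := this _ hy
    exact MonoidHom.mem_ker.mpr h
  let pq : (Φ.cN F) ⧸ K' →* Equiv.Perm (Fin D.nroots) := QuotientGroup.lift K' pp hpK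
  have hcomp : pq.comp f = (Φ.WL).subtype.comp e.toMonoidHom := by
    refine CM.toCoxeterSystem.ext_simple fun i => ?_
    simp only [CoxeterMatrix.toCoxeterSystem_simple, MonoidHom.comp_apply, hf, x, q]
    exact (hppcn i).trans (he i).symm
  have hsurj : ∀ z, z ∈ Φ.cN F → ∃ hz : z ∈ Φ.cN F, q ⟨z, hz⟩ ∈ f.range := by
    intro z hz
    induction hz using Subgroup.closure_induction with
    | mem z hz => obtain ⟨i, rfl⟩ := hz; exact ⟨Φ.cn_mem_cN i, CM.simple i, hf i⟩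
    | one => exact ⟨one_mem _, by rw [show (⟨1, one_mem _⟩ : Φ.cN F) = 1 from rfl, map_one]; exact one_mem _⟩
    | mul a b _ _ ha hb =>
      obtain ⟨ha, ha'⟩ := ha; obtain ⟨hb, hb'⟩ := hb
      refine ⟨mul_mem ha hb, ?_⟩
      rw [show (⟨a * b, mul_mem ha hb⟩ : Φ.cN F) = ⟨a, ha⟩ * ⟨b, hb⟩ from rfl, map_mul]
      exact mul_mem ha' hb'
    | inv a _ ha =>
      obtain ⟨ha, ha'⟩ := ha
      refine ⟨inv_mem ha, ?_⟩
      rw [show (⟨a⁻¹, inv_mem ha⟩ : Φ.cN F) = ⟨a, ha⟩⁻¹ from rfl, map_inv]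
      exact inv_mem ha'
  obtain ⟨hg', c, hc⟩ := hsurj g hg
  have h1 : (e c : Equiv.Perm (Fin D.nroots)) = 1 := by
    have := DFunLike.congr_fun hcomp c
    simp only [MonoidHom.comp_apply, hc, q] at this
    rw [show ((e c : Φ.WL) : Equiv.Perm (Fin D.nroots)) = (Φ.WL).subtype (e.toMonoidHom c) from rfl, ← this]
    exact Mono.unique Φ (hpp _) hm
  have hc1 : c = 1 := e.injective (by rw [map_one]; exact Subtype.ext h1)
  rw [hc1, map_one] at hc
  have := (QuotientGroup.eq_one_iff (⟨g, hg'⟩ : Φ.cN F)).mp hc.symm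
  rwa [hK', Subgroup.mem_subgroupOf] at this

/-! ### Stabilisers of fundamental roots -/

theorem mul_mem_W {a b : Equiv.Perm (Fin D.nroots)} (ha : a ∈ Φ.W) (hb : b ∈ Φ.W) : a * b ∈ Φ.W :=
  mul_mem ha hb

/-- Left multiplication by a rank-two element makes two fundamental roots positive. -/
theorem exists_reduce (b i : Fin D.rank) : ∀ (n : ℕ) (w : Equiv.Perm (Fin D.nroots)), w ∈ Φ.W →
    Φ.inv w = n → ∃ l : List (Fin D.rank), (∀ k ∈ l, k = b ∨ k = i) ∧
      Φ.toTables.Pos ((Φ.lperm l * w)⁻¹ (Φ.p b)) ∧ Φ.toTables.Pos ((Φ.lperm l * w)⁻¹ (Φ.p i)) ∧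
      Φ.inv (Φ.lperm l * w) ≤ n ∧ (¬ Φ.toTables.Pos (w⁻¹ (Φ.p i)) → Φ.inv (Φ.lperm l * w) < n) := by
  intro n
  induction n using Nat.strong_induction_on with
  | _ n ih =>
    intro w hw hn
    by_cases h : Φ.toTables.Pos (w⁻¹ (Φ.p b)) ∧ Φ.toTables.Pos (w⁻¹ (Φ.p i))
    · exact ⟨[], by simp, by simpa [lperm] using h.1, by simpa [lperm] using h.2,
        by simp [lperm, hn], fun hneg => absurd h.2 hneg⟩
    obtain ⟨k, hk, hneg⟩ : ∃ k, (k = b ∨ k = i) ∧ ¬ Φ.toTables.Pos (w⁻¹ (Φ.p k)) := by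
      rcases not_and_or.mp h with h | h
      exacts [⟨b, Or.inl rfl, h⟩, ⟨i, Or.inr rfl, h⟩]
    have hlt := Φ.inv_refl_mul_of_neg (Φ.mem_WL_iff.mpr hw) k hneg
    obtain ⟨l, hl, h1, h2, h3, -⟩ := ih (Φ.inv (Φ.reflPerm k * w)) (by omega) _
      (mul_mem (Φ.reflPerm_mem_W k) hw) rfl
    have e : Φ.lperm (l ++ [k]) * w = Φ.lperm l * (Φ.reflPerm k * w) := by
      rw [Φ.lperm_append, show Φ.lperm [k] = Φ.reflPerm k by simp [lperm], mul_assoc]
    refine ⟨l ++ [k], fun x hx => ?_, by rw [e]; exact h1, by rw [e]; exact h2, by rw [e]; omega,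
      fun _ => by rw [e]; omega⟩
    rcases List.mem_append.mp hx with hx | hx
    · exact hl x hx
    · rw [List.mem_singleton.mp hx]; exact hk

theorem cK_act (hadj : Φ.Adj) (a : Fin D.rank) {g : D.CurtisTitsGroup F} (hg : g ∈ Φ.cK F) (c : F) :
    ∃ c', g * Φ.ctx (Φ.p a) c * g⁻¹ = Φ.ctx (Φ.p a) c' := by
  induction hg using Subgroup.closure_induction_left generalizing c with
  | one => exact ⟨c, by group⟩
  | mul_left x hx y _ ih =>
    obtain ⟨i, rfl⟩ := hx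
    obtain ⟨c', hc'⟩ := ih c
    have h1 := Φ.cn_act (F := F) hadj (Or.inr rfl) (Φ.sub2_p_left a i) c'
    have h2 := Φ.cn_act (F := F) hadj (Or.inr rfl)
      (Φ.sub2_refl (l := i) (Or.inr rfl) (Φ.sub2_p_left a i)) ((Φ.eta i (Φ.p a) : F) * c')
    rw [Φ.refl_refl] at h2
    refine ⟨(Φ.eta i (Φ.refl i (Φ.p a)) : F) * ((Φ.eta i (Φ.p a) : F) * c'), ?_⟩
    rw [← h2, ← h1, ← hc']
    simp only [_root_.mul_inv_rev, mul_assoc]
  | inv_mul_cancel x hx y _ ih =>
    obtain ⟨i, rfl⟩ := hx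
    obtain ⟨c', hc'⟩ := ih c
    obtain ⟨c1, h1⟩ := Φ.cn_act_inv (F := F) hadj (Or.inr rfl) (Φ.sub2_p_left a i) c'
    obtain ⟨c2, h2⟩ := Φ.cn_act_inv (F := F) hadj (Or.inr rfl)
      (Φ.sub2_refl (l := i) (Or.inr rfl) (Φ.sub2_p_left a i)) c1
    rw [Φ.refl_refl] at h2
    refine ⟨c2, ?_⟩
    rw [← h2, ← h1, ← hc']
    simp only [_root_.mul_inv_rev, _root_.inv_inv, mul_assoc]

theorem p_inj_ct {a b : Fin D.rank} (h : Φ.p a = Φ.p b) : a = b := by
  by_contra hne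
  have := congrArg (fun x => Φ.V x a) h
  simp [Φ.V_p, Ne.symm hne] at this

/-- An element of the monomial group moving a fundamental root to another moves its root subgroup
correspondingly. -/
theorem stab_simple (hadj : Φ.Adj) (hcox : Φ.IsCox) : ∀ (m : ℕ) (g : D.CurtisTitsGroup F), g ∈ Φ.cN F →
    ∀ w, w ∈ Φ.W → Φ.Mono (Φ.ctProj F g) w → Φ.inv w = m →
    ∀ a b, w (Φ.p a) = Φ.p b → ∀ c, ∃ c', g * Φ.ctx (Φ.p a) c * g⁻¹ = Φ.ctx (Φ.p b) c' := by
  intro m
  induction m using Nat.strong_induction_on with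
  | _ m ih =>
    intro g hg w hw hm hn a b hab c
    by_cases hpos : ∀ i, Φ.toTables.Pos (w⁻¹ (Φ.p i))
    · have h0 : w = 1 := by
        have : w⁻¹ = 1 := by
          refine Φ.W_eq_one_of_pos (inv_mem hw) fun r hr => ?_
          rw [Φ.pos_iff_V_nonneg]
          intro j
          rw [Φ.W_lin (inv_mem hw)]
          exact Finset.sum_nonneg fun k _ => mul_nonneg (Φ.V_nonneg _ hr k) (Φ.V_nonneg _ (hpos k) j)
        rwa [inv_eq_one] at this
      subst h0
      obtain rfl : a = b := Φ.p_inj_ct hab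
      exact Φ.cK_act hadj a (Φ.mem_cK_of_mono_one hadj hcox hg hm) c
    push Not at hpos
    obtain ⟨i, hi⟩ := hpos
    obtain ⟨l, hl, hb1, hi1, -, hlt⟩ := Φ.exists_reduce b i m w hw hn
    set u := Φ.lperm l * w with hu
    set x := Φ.lperm l (Φ.p b) with hx
    have hux : u (Φ.p a) = x := by rw [hu, Equiv.Perm.mul_apply, hab]
    have huW : u ∈ Φ.W := mul_mem (Φ.lperm_mem_W l) hw
    have hx2 : Φ.Sub2 b i x := by
      obtain ⟨_, -, h2, -⟩ := Φ.cword_conj_cnr (F := F) hadj l hl _ (Φ.sub2_p_left b i)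
      exact h2
    obtain ⟨d, hd, hxd⟩ : ∃ d, (d = b ∨ d = i) ∧ x = Φ.p d := by
      have hinv : u⁻¹ x = Φ.p a := by rw [← hux]; exact u.symm_apply_apply _
      have hlin : ∀ j, Φ.V (Φ.p a) j = ∑ k, Φ.V x k * Φ.V (u⁻¹ (Φ.p k)) j := fun j => by
        rw [← hinv, Φ.W_lin (inv_mem huW)]
      have hp : Φ.toTables.Pos x := by
        by_contra hn'
        have : ∀ j, Φ.V (Φ.p a) j ≤ 0 := fun j => by
          rw [hlin]
          refine Finset.sum_nonpos fun k _ => ?_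
          by_cases hk : k = b ∨ k = i
          · refine mul_nonpos_of_nonpos_of_nonneg (Φ.V_nonpos _ hn' k) ?_
            rcases hk with rfl | rfl
            exacts [Φ.V_nonneg _ hb1 j, Φ.V_nonneg _ hi1 j]
          · push Not at hk
            rw [hx2 k hk.1 hk.2, zero_mul]
        have := this a
        rw [Φ.V_p, if_pos rfl] at this
        omega
      by_contra hne
      push Not at hne
      -- both coefficients are positive, so both images are the fundamental root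
      have hVb : ∀ k, (k = b ∨ k = i) → 0 < Φ.V x k := by
        intro k hk
        obtain ⟨j, hj, hv⟩ := Φ.V_supp x hp (if k = b then i else b) (hne _ (by split_ifs <;> simp))
        by_cases e : j = k
        · rwa [← e]
        · exfalso
          have hj' : j ≠ b ∧ j ≠ i := by
            rcases hk with rfl | rfl
            · exact ⟨e, by simpa using hj⟩
            · refine ⟨?_, e⟩
              by_cases e' : k = b
              · rw [if_pos e'] at hj; rw [← e']; exact e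
              · rwa [if_neg e'] at hj
          rw [hx2 j hj'.1 hj'.2] at hv
          omega
      have key : ∀ k, (k = b ∨ k = i) → u⁻¹ (Φ.p k) = Φ.p a := by
        intro k hk
        have hposk : Φ.toTables.Pos (u⁻¹ (Φ.p k)) := by rcases hk with rfl | rfl <;> assumption
        by_contra hne'
        obtain ⟨j, hja, hv⟩ := Φ.V_supp _ hposk a hne'
        have h0 := hlin j
        rw [Φ.V_p, if_neg (Ne.symm hja)] at h0
        have hnn : ∀ l ∈ (Finset.univ : Finset (Fin D.rank)),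
            0 ≤ Φ.V x l * Φ.V (u⁻¹ (Φ.p l)) j := by
          intro l _
          by_cases hl' : l = b ∨ l = i
          · refine mul_nonneg (Φ.V_nonneg _ hp l) (Φ.V_nonneg _ ?_ j)
            rcases hl' with rfl | rfl <;> assumption
          · push Not at hl'
            rw [hx2 l hl'.1 hl'.2, zero_mul]
        have := Finset.single_le_sum hnn (Finset.mem_univ k)
        have := mul_pos (hVb k hk) hv
        omega
      have hbi : b = i := Φ.p_inj_ct (u⁻¹.injective ((key b (Or.inl rfl)).trans (key i (Or.inr rfl)).symm))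
      apply hi
      rw [← hbi, ← hab]
      simpa using Φ.p_pos a
    have hgl : Φ.Mono (Φ.ctProj F (Φ.cword F l * g)) u := by
      rw [map_mul]; exact Mono.mul Φ (Φ.cword_mono l) hm
    obtain ⟨c1, hc1⟩ := ih _ (hlt hi) _ (mul_mem (Φ.cword_mem_cN l) hg) u huW hgl rfl a d
      (by rw [hux, hxd]) c
    obtain ⟨c2, hc2, -⟩ := Φ.cword_act hadj l hl (Φ.p d) (hxd ▸ hx2) c1
    rw [show (Φ.lperm l)⁻¹ (Φ.p d) = Φ.p b by rw [← hxd, hx]; simp] at hc2
    refine ⟨c2, ?_⟩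
    rw [← hc2, ← hc1]
    group

end Chev

end CfsgLib.Chev
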