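/-
Curtis–Tits: the root elements for all roots.
-/
import Cfsg.Agent.Lib.ChevCT.Monomial

namespace CfsgLib.Chev

open Cfsg.Lie Matrix

set_option linter.dupNamespace false
set_option linter.unusedSimpArgs false
set_option linter.unusedVariables false
set_option linter.unusedSectionVars false
set_option maxHeartbeats 600000

variable {D : ChevalleyDatum}

namespace Chev

variable (Φ : Chev D) {F : Type*} [Field F]

/-- The candidates for the root subgroup of `r`: conjugates of fundamental root elements. -/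
def cG (F : Type*) [Field F] (r : Fin D.nroots) : Set (D.CurtisTitsGroup F) :=
  {g | ∃ n ∈ Φ.cN F, ∃ w, w ∈ Φ.W ∧ Φ.Mono (Φ.ctProj F n) w ∧ ∃ a, w (Φ.p a) = r ∧
    ∃ c, n * Φ.ctx (Φ.p a) c * n⁻¹ = g}

theorem cG_unique (hadj : Φ.Adj) (hcox : Φ.IsCox) {r : Fin D.nroots} {g g' : D.CurtisTitsGroup F}
    (hg : g ∈ Φ.cG F r) (hg' : g' ∈ Φ.cG F r) (h : Φ.ctProj F g = Φ.ctProj F g') : g = g' := by
  obtain ⟨n, hn, w, hw, hm, a, ha, c, rfl⟩ := hg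
  obtain ⟨n', hn', w', hw', hm', a', ha', c', rfl⟩ := hg'
  obtain ⟨v, hv, hmv, hmv'⟩ := Φ.cN_exists_mono hn'
  obtain rfl := Mono.unique Φ hm' hmv
  have hmg : Φ.Mono (Φ.ctProj F (n'⁻¹ * n)) (w'⁻¹ * w) := by
    rw [map_mul]; exact Mono.mul Φ hmv' hm
  have e : (w'⁻¹ * w) (Φ.p a) = Φ.p a' := by
    rw [Equiv.Perm.mul_apply, ha, ← ha']; exact w'.symm_apply_apply _
  obtain ⟨c'', hc''⟩ := Φ.stab_simple hadj hcox _ _ (mul_mem (inv_mem hn') hn) _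
    (mul_mem (inv_mem hw') hw) hmg rfl a a' e c
  have h2 : n'⁻¹ * (n * Φ.ctx (Φ.p a) c * n⁻¹) * n' = Φ.ctx (Φ.p a') c'' := by rw [← hc'']; group
  have h3 := congrArg (Φ.ctProj F) h2
  rw [map_mul, map_mul, h, ← map_mul, ← map_mul,
    show n'⁻¹ * (n' * Φ.ctx (Φ.p a') c' * n'⁻¹) * n' = Φ.ctx (Φ.p a') c' by group,
    Φ.ctProj_ctx ⟨a', a', Φ.sub2_p_left a' a'⟩, Φ.ctProj_ctx ⟨a', a', Φ.sub2_p_left a' a'⟩] at h3
  rw [← Φ.toAlg.xg_injective (Φ.p a') h3] at h2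
  rw [← h2]
  group

theorem cG_conj {n : D.CurtisTitsGroup F} (hn : n ∈ Φ.cN F) {v : Equiv.Perm (Fin D.nroots)}
    (hv : v ∈ Φ.W) (hm : Φ.Mono (Φ.ctProj F n) v) {r : Fin D.nroots} {g : D.CurtisTitsGroup F}
    (hg : g ∈ Φ.cG F r) : n * g * n⁻¹ ∈ Φ.cG F (v r) := by
  obtain ⟨k, hk, w, hw, hmk, a, ha, c, rfl⟩ := hg
  refine ⟨n * k, mul_mem hn hk, v * w, mul_mem hv hw, ?_, a, ?_, c, by group⟩
  · rw [map_mul]; exact Mono.mul Φ hm hmk
  · rw [Equiv.Perm.mul_apply, ha]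

theorem exists_cN_to (r : Fin D.nroots) : ∃ n ∈ Φ.cN F, ∃ w, w ∈ Φ.W ∧ Φ.Mono (Φ.ctProj F n) w ∧
    ∃ a, w (Φ.p a) = r := by
  induction r using Φ.root_induction with
  | hp i => exact ⟨1, one_mem _, 1, one_mem _, by rw [map_one]; exact Mono.one Φ, i, rfl⟩
  | hstep i r ih =>
    obtain ⟨n, hn, w, hw, hm, a, ha⟩ := ih
    refine ⟨Φ.cn F i * n, mul_mem (Φ.cn_mem_cN i) hn, Φ.reflPerm i * w,
      mul_mem (Φ.reflPerm_mem_W i) hw, ?_, a, ?_⟩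
    · rw [map_mul, Φ.cn_proj]; exact Mono.mul Φ (Φ.nw_one_mono i) hm
    · rw [Equiv.Perm.mul_apply, ha]; rfl

theorem cG_surj (r : Fin D.nroots) (c : F) :
    ∃ g ∈ Φ.cG F r, Φ.ctProj F g = Φ.toAlg.xg r c := by
  obtain ⟨n, hn, w, hw, hm, a, ha⟩ := Φ.exists_cN_to (F := F) r
  obtain ⟨k, hk, hconj, -⟩ := hm.1 (Φ.p a)
  refine ⟨_, ⟨n, hn, w, hw, hm, a, ha, c / k, rfl⟩, ?_⟩
  rw [map_mul, map_mul, map_inv, Φ.ctProj_ctx ⟨a, a, Φ.sub2_p_left a a⟩, hconj, ha, mul_div_cancel₀ _ hk]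

/-- The root element of an arbitrary root. -/
noncomputable def cX (r : Fin D.nroots) (c : F) : D.CurtisTitsGroup F := (Φ.cG_surj r c).choose

theorem cX_mem (r : Fin D.nroots) (c : F) : Φ.cX r c ∈ Φ.cG F r := (Φ.cG_surj r c).choose_spec.1

theorem cX_proj (r : Fin D.nroots) (c : F) : Φ.ctProj F (Φ.cX r c) = Φ.toAlg.xg r c :=
  (Φ.cG_surj r c).choose_spec.2

theorem eq_cX (hadj : Φ.Adj) (hcox : Φ.IsCox) {r : Fin D.nroots} {c : F} {g : D.CurtisTitsGroup F}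
    (hg : g ∈ Φ.cG F r) (h : Φ.ctProj F g = Φ.toAlg.xg r c) : g = Φ.cX r c :=
  Φ.cG_unique hadj hcox hg (Φ.cX_mem r c) (h.trans (Φ.cX_proj r c).symm)

theorem cX_add (hadj : Φ.Adj) (hcox : Φ.IsCox) (r : Fin D.nroots) (b c : F) :
    Φ.cX r (b + c) = Φ.cX r b * Φ.cX r c := by
  obtain ⟨n, hn, w, hw, hm, a, ha⟩ := Φ.exists_cN_to (F := F) r
  obtain ⟨k, hk, hconj, -⟩ := hm.1 (Φ.p a)
  have key : ∀ d : F, Φ.cX r d = n * Φ.ctx (Φ.p a) (d / k) * n⁻¹ := fun d =>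
    (Φ.eq_cX hadj hcox ⟨n, hn, w, hw, hm, a, ha, d / k, rfl⟩ (by
      rw [map_mul, map_mul, map_inv, Φ.ctProj_ctx ⟨a, a, Φ.sub2_p_left a a⟩, hconj, ha,
        mul_div_cancel₀ _ hk])).symm
  rw [key, key, key, add_div, Φ.ctx_add (Φ.sub2_p_left a a)]
  group

theorem cX_conj (hadj : Φ.Adj) (hcox : Φ.IsCox) {n : D.CurtisTitsGroup F} (hn : n ∈ Φ.cN F)
    {v : Equiv.Perm (Fin D.nroots)} (hv : v ∈ Φ.W) (hm : Φ.Mono (Φ.ctProj F n) v)
    (r : Fin D.nroots) (c : F) :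
    ∃ c', n * Φ.cX r c * n⁻¹ = Φ.cX (v r) c' := by
  obtain ⟨c', hc'⟩ := Mono.conj Φ hm r c
  exact ⟨c', Φ.eq_cX hadj hcox (Φ.cG_conj hn hv hm (Φ.cX_mem r c))
    (by rw [map_mul, map_mul, map_inv, Φ.cX_proj, hc'])⟩

theorem ctx_mem_cG (hadj : Φ.Adj) {i j : Fin D.rank} : ∀ r, Φ.Sub2 i j r → ∀ c : F,
    Φ.ctx r c ∈ Φ.cG F r := by
  have step : ∀ r k, (k = i ∨ k = j) → Φ.Sub2 i j r → (∀ c : F, Φ.ctx r c ∈ Φ.cG F r) →
      ∀ c : F, Φ.ctx (Φ.refl k r) c ∈ Φ.cG F (Φ.refl k r) := by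
    intro r k hk hr h c
    have hm : Φ.Mono (Φ.ctProj F (Φ.cn F k)) (Φ.reflPerm k) := by rw [Φ.cn_proj]; exact Φ.nw_one_mono k
    have hu : (Φ.eta k r : F) * (Φ.eta k r : F) = 1 := by
      rcases Φ.eta_unit k r with e | e <;> simp [e]
    have h1 := Φ.cn_act (F := F) hadj hk hr ((Φ.eta k r : F) * c)
    rw [← mul_assoc, hu, one_mul] at h1
    rw [← h1, ← Φ.reflPerm_apply]
    exact Φ.cG_conj (Φ.cn_mem_cN k) (Φ.reflPerm_mem_W k) hm (h _)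
  have key : ∀ m : ℕ, ∀ r : Fin D.nroots, r.val = m → Φ.toTables.Pos r → Φ.Sub2 i j r →
      (∀ c : F, Φ.ctx r c ∈ Φ.cG F r) ∧ ∀ c : F, Φ.ctx r.rev c ∈ Φ.cG F r.rev := by
    intro m
    induction m using Nat.strong_induction_on with
    | _ m ih =>
      intro r hm hr hs
      by_cases hsimp : ∃ a, r = Φ.p a
      · obtain ⟨a, rfl⟩ := hsimp
        have hbase : ∀ c : F, Φ.ctx (Φ.p a) c ∈ Φ.cG F (Φ.p a) := fun c =>
          ⟨1, one_mem _, 1, one_mem _, by rw [map_one]; exact Mono.one Φ, a, rfl, c, by group⟩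
        have hak : a = i ∨ a = j := by
          by_contra hne
          push Not at hne
          have := hs a hne.1 hne.2
          rw [Φ.V_p, if_pos rfl] at this
          omega
        refine ⟨hbase, ?_⟩
        rw [← Φ.refl_p]
        exact step _ a hak hs hbase
      push Not at hsimp
      obtain ⟨k, hkC, hkA⟩ : ∃ k, 0 < Φ.C r k ∧ 0 < Φ.A k r := by
        by_contra hn
        push Not at hn
        have h := Φ.pair_self r
        have : ∑ k, Φ.C r k * Φ.A k r ≤ 0 := Finset.sum_nonpos fun k _ => by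
          rcases (Φ.C_nonneg hr k).eq_or_lt with e | e
          · simp [← e]
          · exact mul_nonpos_of_nonneg_of_nonpos e.le (hn k e)
        omega
      have hk : k = i ∨ k = j := by
        by_contra hne
        push Not at hne
        have := (Φ.C_eq_zero_iff r k).mpr (hs k hne.1 hne.2)
        omega
      have hs' := Φ.sub2_refl hk hs
      obtain ⟨h1, h2⟩ := ih (Φ.refl k r).val (hm ▸ Φ.refl_lt hkA) _ rfl
        (Φ.refl_pos hr (hsimp k)).1 hs'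
      have e1 := step _ k hk hs' h1
      have e2 := step _ k hk (Φ.sub2_rev hs') h2
      rw [Φ.refl_refl] at e1
      rw [Φ.refl_rev, Φ.refl_refl] at e2
      exact ⟨e1, e2⟩
  intro r hr
  by_cases hp : Φ.toTables.Pos r
  · exact (key _ r rfl hp hr).1
  · have := (key _ r.rev rfl ((Φ.pos_rev_iff r).mpr hp) (Φ.sub2_rev hr)).2
    rwa [Fin.rev_rev] at this

theorem cX_eq_ctx (hadj : Φ.Adj) (hcox : Φ.IsCox) {i j : Fin D.rank} {r : Fin D.nroots}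
    (hr : Φ.Sub2 i j r) (c : F) : Φ.cX r c = Φ.ctx r c :=
  (Φ.eq_cX hadj hcox (Φ.ctx_mem_cG hadj r hr c) (Φ.ctProj_ctx ⟨i, j, hr⟩ c)).symm

theorem ctTheta_cX (hadj : Φ.Adj) (r : Fin D.nroots) (c : F) :
    Φ.ctTheta F (Φ.cX r c) = Φ.gx r c := by
  obtain ⟨n, hn, w, hw, hm, a, ha, d, he⟩ := Φ.cX_mem r c
  have hN : Φ.ctTheta F n ∈ Φ.gN F := by
    clear hm he
    induction hn using Subgroup.closure_induction with
    | mem x hx =>
      obtain ⟨i, rfl⟩ := hx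
      refine Subgroup.subset_closure ⟨Φ.p i, 1, ?_⟩
      simp only [gn, cn, cnr, map_mul]
      rw [Φ.ctTheta_ctx ⟨i, i, Φ.sub2_p_left i i⟩,
        Φ.ctTheta_ctx ⟨i, i, Φ.sub2_rev (Φ.sub2_p_left i i)⟩]
    | one => simp
    | mul x y _ _ hx hy => rw [map_mul]; exact mul_mem hx hy
    | inv x _ hx => rw [map_inv]; exact inv_mem hx
  have hp := Φ.cX_proj r c
  rw [← he] at hp ⊢
  rw [map_mul, map_mul, map_inv, Φ.ctTheta_ctx ⟨a, a, Φ.sub2_p_left a a⟩]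
  refine (Φ.nice_of_gN hadj hN).2 _ _ _ _ ?_
  rw [← hp, ctProj]
  simp [Φ.ctTheta_ctx (⟨a, a, Φ.sub2_p_left a a⟩ : Φ.InR2 (Φ.p a)), Φ.proj_gx]

end Chev

end CfsgLib.Chev
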