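/-
Curtis–Tits: the commutator relations for all pairs of roots and the isomorphism.
-/
import Cfsg.Agent.Lib.ChevCT.Extend
import Cfsg.Agent.Lib.Chev.SteinbergCoverRels

namespace CfsgLib.Chev

open Cfsg.Lie Matrix

set_option linter.dupNamespace false
set_option linter.unusedSimpArgs false
set_option linter.unusedVariables false
set_option linter.unusedSectionVars false
set_option maxHeartbeats 600000

variable {D : ChevalleyDatum}

namespace Chev

variable (Φ : Chev D) {F : Type*} [Field F]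

/-! ### Linear functionals on the root lattice -/

/-- The coefficient vector over the rationals. -/
def Vrat (y : Fin D.nroots) : Fin D.rank → ℚ := fun k => (Φ.V y k : ℚ)

theorem Vrat_W {w : Equiv.Perm (Fin D.nroots)} (hw : w ∈ Φ.W) (y : Fin D.nroots) :
    Φ.Vrat (w y) = ∑ k, (Φ.V y k : ℚ) • Φ.Vrat (w (Φ.p k)) := by
  funext j
  simp only [Vrat, Finset.sum_apply, Pi.smul_apply, smul_eq_mul, Φ.W_lin hw y j, Int.cast_sum,
    Int.cast_mul]

theorem Vrat_neg (y : Fin D.nroots) : Φ.Vrat y.rev = -Φ.Vrat y := by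
  funext j
  simp [Vrat, Φ.V_neg y]

/-- Some element of the Weyl group moves a functional into the closed chamber. -/
theorem exists_chamber (f : (Fin D.rank → ℚ) →ₗ[ℚ] ℚ) :
    ∃ w ∈ Φ.W, ∀ k, 0 ≤ f (Φ.Vrat (w⁻¹ (Φ.p k))) := by
  classical
  let bad : Equiv.Perm (Fin D.nroots) → Finset (Fin D.nroots) := fun w =>
    Finset.univ.filter fun r => Φ.toTables.Pos r ∧ f (Φ.Vrat (w⁻¹ r)) < 0
  obtain ⟨w, hw, hmin⟩ := (Finset.univ.filter fun w => w ∈ Φ.W).exists_min_image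
    (fun w => (bad w).card) ⟨1, by simp [one_mem]⟩
  simp only [Finset.mem_filter, Finset.mem_univ, true_and] at hw hmin
  refine ⟨w, hw, fun k => ?_⟩
  by_contra hk
  push Not at hk
  have hle := hmin (Φ.reflPerm k * w) (mul_mem (Φ.reflPerm_mem_W k) hw)
  have he : ∀ r, (Φ.reflPerm k * w)⁻¹ r = w⁻¹ (Φ.refl k r) := fun r => by
    rw [_root_.mul_inv_rev, Φ.reflPerm_inv]; rfl
  have hsub : (bad (Φ.reflPerm k * w)).image (Φ.refl k) ⊆ (bad w).erase (Φ.p k) := by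
    intro y hy
    simp only [bad, Finset.mem_image, Finset.mem_filter, Finset.mem_univ, true_and, he] at hy
    obtain ⟨r, ⟨hr, hneg⟩, rfl⟩ := hy
    have hne : r ≠ Φ.p k := fun e => by
      rw [e, Φ.refl_p, Φ.W_rev (inv_mem hw), Φ.Vrat_neg, map_neg] at hneg
      linarith
    simp only [bad, Finset.mem_erase, Finset.mem_filter, Finset.mem_univ, true_and]
    exact ⟨(Φ.refl_pos hr hne).2, (Φ.refl_pos hr hne).1, hneg⟩
  have h1 := Finset.card_le_card hsub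
  rw [Finset.card_image_of_injective _ (show Function.Injective (Φ.refl k) from (Φ.reflPerm k).injective),
    Finset.card_erase_of_mem (Finset.mem_filter.mpr ⟨Finset.mem_univ _, Φ.p_pos k, hk⟩)] at h1
  have h2 : 0 < (bad w).card := Finset.card_pos.mpr ⟨Φ.p k, Finset.mem_filter.mpr ⟨Finset.mem_univ _, Φ.p_pos k, hk⟩⟩
  simp only [bad] at hle h1 h2
  omega

theorem chamber_pos {f : (Fin D.rank → ℚ) →ₗ[ℚ] ℚ} {w : Equiv.Perm (Fin D.nroots)} (hw : w ∈ Φ.W)
    (hf : ∀ k, 0 ≤ f (Φ.Vrat (w⁻¹ (Φ.p k)))) (y : Fin D.nroots) :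
    (0 < f (Φ.Vrat y) → Φ.toTables.Pos (w y)) ∧
      (f (Φ.Vrat y) = 0 → ∀ k, f (Φ.Vrat (w⁻¹ (Φ.p k))) ≠ 0 → Φ.V (w y) k = 0) := by
  have e : f (Φ.Vrat y) = ∑ k, (Φ.V (w y) k : ℚ) * f (Φ.Vrat (w⁻¹ (Φ.p k))) := by
    have := congrArg f (Φ.Vrat_W (inv_mem hw) (w y))
    rw [show w⁻¹ (w y) = y from w.symm_apply_apply y] at this
    rw [this, map_sum]
    simp
  refine ⟨fun h => by_contra fun hn => ?_, fun h k hk => ?_⟩
  · rw [e] at h
    have := Finset.sum_nonpos fun k (_ : k ∈ (Finset.univ : Finset (Fin D.rank))) =>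
      mul_nonpos_of_nonpos_of_nonneg (Int.cast_nonpos.mpr (Φ.V_nonpos _ hn k) : (Φ.V (w y) k : ℚ) ≤ 0)
        (hf k)
    linarith
  · have hz : (Φ.V (w y) k : ℚ) * f (Φ.Vrat (w⁻¹ (Φ.p k))) = 0 := by
      rw [e] at h
      by_cases hp : Φ.toTables.Pos (w y)
      · exact (Finset.sum_eq_zero_iff_of_nonneg fun l _ => mul_nonneg
          (Int.cast_nonneg (Φ.V_nonneg _ hp l)) (hf l)).mp h k (Finset.mem_univ _)
      · exact (Finset.sum_eq_zero_iff_of_nonpos fun l _ => mul_nonpos_of_nonpos_of_nonneg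
          (Int.cast_nonpos.mpr (Φ.V_nonpos _ hp l)) (hf l)).mp h k (Finset.mem_univ _)
    exact_mod_cast (mul_eq_zero.mp hz).resolve_right hk

theorem indep_pair {r s : Fin D.nroots} (h1 : s ≠ r) (h2 : s ≠ r.rev) :
    LinearIndependent ℚ ![Φ.Vrat r, Φ.Vrat s] := by
  obtain ⟨π, hπ, a, ha⟩ := Φ.exists_to_simple r
  rw [LinearIndependent.pair_iff]
  intro x y hxy
  have hπxy : x • Φ.Vrat (π r) + y • Φ.Vrat (π s) = 0 := by
    rw [Φ.Vrat_W hπ r, Φ.Vrat_W hπ s, Finset.smul_sum, Finset.smul_sum, ← Finset.sum_add_distrib]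
    refine Finset.sum_eq_zero fun k _ => ?_
    rw [smul_smul, smul_smul, ← add_smul,
      show x * (Φ.V r k : ℚ) + y * (Φ.V s k : ℚ) = 0 from congrFun hxy k, zero_smul]
  have hs : ∃ j, j ≠ a ∧ Φ.V (π s) j ≠ 0 := by
    by_cases hp : Φ.toTables.Pos (π s)
    · obtain ⟨j, hj, hv⟩ := Φ.V_supp _ hp a (fun e => h1 (π.injective (e.trans ha.symm)))
      exact ⟨j, hj, by omega⟩
    · obtain ⟨j, hj, hv⟩ := Φ.V_supp _ ((Φ.pos_rev_iff _).mpr hp) a (fun e => h2 (π.injective (by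
        rw [Φ.W_rev hπ, ha, ← e, Fin.rev_rev])))
      rw [Φ.V_neg (π s)] at hv
      exact ⟨j, hj, by omega⟩
  obtain ⟨j, hj, hv⟩ := hs
  rw [ha] at hπxy
  have hyj := congrFun hπxy j
  simp only [Vrat, Pi.add_apply, Pi.smul_apply, smul_eq_mul, Φ.V_p, if_neg (Ne.symm hj), Int.cast_zero,
    mul_zero, zero_add, Pi.zero_apply] at hyj
  have hy : y = 0 := (mul_eq_zero.mp hyj).resolve_right (by exact_mod_cast hv)
  have hxa := congrFun hπxy a
  simp [Vrat, hy, Φ.V_p] at hxa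
  exact ⟨hxa, hy⟩

theorem exists_pos_pair_of_ne {r s : Fin D.nroots} (h1 : s ≠ r) (h2 : s ≠ r.rev) :
    ∃ w ∈ Φ.W, Φ.toTables.Pos (w r) ∧ Φ.toTables.Pos (w s) := by
  have hli := Φ.indep_pair h1 h2
  obtain ⟨f, hf⟩ := LinearMap.exists_extend ((Module.Basis.span hli).constr ℚ fun _ => (1 : ℚ))
  have hval : ∀ i : Fin 2, f (![Φ.Vrat r, Φ.Vrat s] i) = 1 := by
    intro i
    have := LinearMap.congr_fun hf (Module.Basis.span hli i)
    rw [LinearMap.comp_apply, Module.Basis.constr_basis, Submodule.subtype_apply] at this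
    rw [← this, Module.Basis.span_apply]
  obtain ⟨w, hw, hk⟩ := Φ.exists_chamber f
  refine ⟨w, hw, (Φ.chamber_pos hw hk r).1 ?_, (Φ.chamber_pos hw hk s).1 ?_⟩
  · have := hval 0; simp at this; rw [this]; norm_num
  · have := hval 1; simp at this; rw [this]; norm_num

/-- Any two roots are moved into a common rank-two subsystem of fundamental roots. -/
theorem exists_pair_sub (r s : Fin D.nroots) :
    ∃ w ∈ Φ.W, ∃ i j, Φ.Sub2 i j (w r) ∧ Φ.Sub2 i j (w s) := by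
  classical
  set S : Submodule ℚ (Fin D.rank → ℚ) := Submodule.span ℚ {Φ.Vrat r, Φ.Vrat s} with hS
  obtain ⟨φ, hφ⟩ := Module.exists_dual_forall_apply_ne_zero (K := ℚ)
    (fun y : {y : Fin D.nroots // Φ.Vrat y ∉ S} => S.mkQ (Φ.Vrat y.1))
    (fun y h => y.2 ((Submodule.Quotient.mk_eq_zero S).mp h))
  set f : (Fin D.rank → ℚ) →ₗ[ℚ] ℚ := φ.comp S.mkQ with hfdef
  have hf0 : ∀ y, f (Φ.Vrat y) = 0 ↔ Φ.Vrat y ∈ S := by
    intro y
    refine ⟨fun h => by_contra fun hn => hφ ⟨y, hn⟩ h, fun h => ?_⟩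
    rw [hfdef, LinearMap.comp_apply, Submodule.mkQ_apply, (Submodule.Quotient.mk_eq_zero S).mpr h, map_zero]
  obtain ⟨w, hw, hk⟩ := Φ.exists_chamber f
  set J := Finset.univ.filter fun k => f (Φ.Vrat (w⁻¹ (Φ.p k))) = 0 with hJ
  have hJ2 : J.card ≤ 2 := by
    let L : (Fin D.rank → ℚ) →ₗ[ℚ] (Fin D.rank → ℚ) :=
      Fintype.linearCombination ℚ fun k => Φ.Vrat (w (Φ.p k))
    have hL : ∀ y, L (Φ.Vrat y) = Φ.Vrat (w y) := fun y => by
      rw [Φ.Vrat_W hw y]; simp [L, Fintype.linearCombination_apply, Vrat]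
    have hmem : ∀ k ∈ J, Φ.Vrat (Φ.p k) ∈ S.map L := by
      intro k hk'
      simp only [hJ, Finset.mem_filter, Finset.mem_univ, true_and] at hk'
      refine ⟨_, (hf0 _).mp hk', ?_⟩
      rw [hL, show w (w⁻¹ (Φ.p k)) = Φ.p k from w.apply_symm_apply _]
    have hli : LinearIndependent ℚ fun k : J => (⟨Φ.Vrat (Φ.p k.1), hmem k.1 k.2⟩ : S.map L) := by
      refine LinearIndependent.of_comp (S.map L).subtype ?_
      have : (S.map L).subtype ∘ (fun k : J => (⟨Φ.Vrat (Φ.p k.1), hmem k.1 k.2⟩ : S.map L)) =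
          (Pi.basisFun ℚ (Fin D.rank)) ∘ (fun k : J => k.1) := by
        funext k j
        simp [Vrat, Φ.V_p, Pi.single_apply, eq_comm]
      rw [this]
      exact (Pi.basisFun ℚ (Fin D.rank)).linearIndependent.comp _ Subtype.val_injective
    have h := hli.fintype_card_le_finrank
    rw [Fintype.card_coe] at h
    refine h.trans ((Submodule.finrank_map_le L S).trans ?_)
    rw [hS, show ({Φ.Vrat r, Φ.Vrat s} : Set (Fin D.rank → ℚ)) =
      (({Φ.Vrat r, Φ.Vrat s} : Finset (Fin D.rank → ℚ)) : Set (Fin D.rank → ℚ)) by simp]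
    exact (finrank_span_finset_le_card _).trans Finset.card_le_two
  obtain ⟨-, -, a, -⟩ := Φ.exists_to_simple r
  obtain ⟨i, j, hij⟩ : ∃ i j, ∀ k ∈ J, k = i ∨ k = j := by
    rcases J.eq_empty_or_nonempty with h | ⟨i, hi⟩
    · exact ⟨a, a, fun k hk => by simp [h] at hk⟩
    have hc : (J.erase i).card ≤ 1 := by rw [Finset.card_erase_of_mem hi]; omega
    rcases (J.erase i).eq_empty_or_nonempty with h | ⟨j, hj⟩
    · refine ⟨i, i, fun k hk => Or.inl (by_contra fun hne => ?_)⟩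
      have := Finset.mem_erase.mpr ⟨hne, hk⟩
      simp [h] at this
    · refine ⟨i, j, fun k hk => ?_⟩
      by_cases hne : k = i
      · exact Or.inl hne
      · exact Or.inr (Finset.card_le_one.mp hc k (Finset.mem_erase.mpr ⟨hne, hk⟩) j hj)
  have key : ∀ y, Φ.Vrat y ∈ S → Φ.Sub2 i j (w y) := by
    intro y hy k hki hkj
    refine (Φ.chamber_pos hw hk y).2 ((hf0 y).mpr hy) k fun h0 => ?_
    rcases hij k (Finset.mem_filter.mpr ⟨Finset.mem_univ _, h0⟩) with e | e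
    exacts [hki e, hkj e]
  exact ⟨w, hw, i, j, key r (Submodule.subset_span (by simp)), key s (Submodule.subset_span (by simp))⟩

theorem exists_cN_of_W {w : Equiv.Perm (Fin D.nroots)} (hw : w ∈ Φ.W) :
    ∃ n ∈ Φ.cN F, Φ.Mono (Φ.ctProj F n) w := by
  refine Φ.W_induction (Q := fun w => ∃ n ∈ Φ.cN F, Φ.Mono (Φ.ctProj F n) w) ?_ ?_ hw
  · exact ⟨1, one_mem _, by rw [map_one]; exact Mono.one Φ⟩
  · rintro i v - ⟨n, hn, hm⟩
    exact ⟨Φ.cn F i * n, mul_mem (Φ.cn_mem_cN i) hn,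
      by rw [map_mul, Φ.cn_proj]; exact Mono.mul Φ (Φ.nw_one_mono i) hm⟩

/-! ### The relations -/

variable (F) in
/-- The map from the free group given by the root elements. -/
noncomputable def cLift : FreeGroup (Fin D.nroots × F) →* D.CurtisTitsGroup F :=
  FreeGroup.lift fun p => Φ.cX p.1 p.2

theorem cLift_stX (r : Fin D.nroots) (t : F) : Φ.cLift F (D.stX r.val t) = Φ.cX r t := by
  rw [ChevalleyDatum.stX, dif_pos r.isLt, cLift, FreeGroup.lift_apply_of]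

theorem ctProj_cLift (g : FreeGroup (Fin D.nroots × F)) :
    Φ.ctProj F (Φ.cLift F g) =
      FreeGroup.lift (fun p : Fin D.nroots × F => Φ.toAlg.xg p.1 p.2) g := by
  have : (Φ.ctProj F).comp (Φ.cLift F) =
      FreeGroup.lift (fun p : Fin D.nroots × F => Φ.toAlg.xg p.1 p.2) := by
    refine FreeGroup.ext_hom _ _ fun p => ?_
    simp [cLift, Φ.cX_proj]
  exact DFunLike.congr_fun this g

theorem cLift_rels (hadj : Φ.Adj) (hcox : Φ.IsCox) : ∀ g ∈ D.steinbergRelsAB F, Φ.cLift F g = 1 := by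
  intro g hg
  have hproj : Φ.ctProj F (Φ.cLift F g) = 1 := by
    rw [Φ.ctProj_cLift]; exact Φ.rels_lift g (Or.inl hg)
  rcases hg with ⟨r, a, b, hr, rfl⟩ | ⟨r, s, t, u, hr, hs, h1, h2, rfl⟩
  · rw [map_mul, map_mul, map_inv, Φ.cLift_stX ⟨r, hr⟩, Φ.cLift_stX ⟨r, hr⟩, Φ.cLift_stX ⟨r, hr⟩,
      mul_inv_eq_one]
    exact (Φ.cX_add hadj hcox _ a b).symm
  set R : Fin D.nroots := ⟨r, hr⟩ with hR
  set S : Fin D.nroots := ⟨s, hs⟩ with hS
  have hne1 : S ≠ R := fun e => h1 (congrArg Fin.val e)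
  have hne2 : S ≠ R.rev := fun e => h2 ((congrArg Fin.val e).trans (Φ.negIdx_eq R).symm)
  obtain ⟨w, hw, i, j, hwR, hwS⟩ := Φ.exists_pair_sub R S
  obtain ⟨π, hπ, hpR, hpS⟩ := Φ.exists_pos_pair_of_ne (r := w R) (s := w S) (fun e => hne1 (w.injective e))
    (fun e => hne2 (w.injective (by rw [Φ.W_rev hw]; exact e)))
  obtain ⟨n, hn, hm⟩ := Φ.exists_cN_of_W (F := F) hw
  set T : Fin D.nroots → Prop := fun x => Φ.Sub2 i j x ∧ Φ.toTables.Pos (π x) with hT
  have hadd : ∀ x y, Φ.N x y ≠ 0 → T (w x) → T (w y) → T (w (Φ.S x y)) := by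
    intro x y hN hx hy
    have hV : ∀ k, Φ.V (w (Φ.S x y)) k = Φ.V (w x) k + Φ.V (w y) k := fun k =>
      Φ.V_map_add (Φ.mem_WL_iff.mpr hw) hN k
    have hV' : ∀ k, Φ.V (π (w (Φ.S x y))) k = Φ.V (π (w x)) k + Φ.V (π (w y)) k := fun k =>
      Φ.V_map_add (π := π * w) (Φ.mem_WL_iff.mpr (mul_mem hπ hw)) hN k
    refine ⟨fun k hi hj => by rw [hV, hx.1 k hi hj, hy.1 k hi hj, add_zero], ?_⟩
    rw [Φ.pos_iff_V_nonneg]
    intro k
    rw [hV']
    exact add_nonneg (Φ.V_nonneg _ hx.2 k) (Φ.V_nonneg _ hy.2 k)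
  have hRT : T (w R) := ⟨hwR, hpR⟩
  have hST : T (w S) := ⟨hwS, hpS⟩
  have hgen : ∀ x v, T (w x) → n * Φ.cX x v * n⁻¹ ∈ Φ.ctUS F T := by
    intro x v hx
    obtain ⟨c, hc⟩ := Φ.cX_conj hadj hcox hn hw hm x v
    rw [hc, Φ.cX_eq_ctx hadj hcox hx.1]
    exact Φ.ctx_mem_ctUS hx c
  set K : Subgroup (D.CurtisTitsGroup F) := (Φ.ctUS F T).comap (MulAut.conj n).toMonoidHom with hK
  have hKmem : ∀ x v, T (w x) → Φ.cLift F (D.stX x.val v) ∈ K := by
    intro x v hx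
    rw [Φ.cLift_stX]
    exact hgen x v hx
  have hword : Φ.cLift F (D.stWord (D.commWord F r s t u)) ∈ K := by
    rw [ChevalleyDatum.stWord, map_list_prod, List.map_map]
    refine Subgroup.list_prod_mem _ fun y hy => ?_
    obtain ⟨p, hp, rfl⟩ := List.mem_map.mp hy
    simp only [ChevalleyDatum.commWord, List.mem_map] at hp
    obtain ⟨d, hd, rfl⟩ := hp
    obtain ⟨hlt, hq⟩ := Φ.commTerms_mem (Q := fun x => T (w x)) (r := R) (s := S)
      (fun hN => hadd _ _ hN hRT hST) (fun x hx hN => hadd _ _ hN hRT hx)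
      (fun x hx hN => hadd _ _ hN hST hx) hd
    exact hKmem ⟨d.1, hlt⟩ _ hq
  have hmem : Φ.cLift F ((D.stX s u)⁻¹ * (D.stX r t)⁻¹ * D.stX s u * D.stX r t *
      (D.stWord (D.commWord F r s t u))⁻¹) ∈ K := by
    simp only [map_mul, map_inv]
    exact mul_mem (mul_mem (mul_mem (mul_mem (inv_mem (hKmem S u hST)) (inv_mem (hKmem R t hRT)))
      (hKmem S u hST)) (hKmem R t hRT)) (inv_mem hword)
  have hcl : Φ.Closed T := fun x y hx hy hN => by
    refine ⟨Φ.sub2_add hx.1 hy.1 hN, ?_⟩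
    rw [Φ.pos_iff_V_nonneg]
    intro k
    rw [Φ.V_map_add (Φ.mem_WL_iff.mpr hπ) hN]
    exact add_nonneg (Φ.V_nonneg _ hx.2 k) (Φ.V_nonneg _ hy.2 k)
  have h := Φ.ctUS_inj hπ hcl (fun x hx => hx.1) (fun x hx => hx.2) _ hmem (by
    rw [MulEquiv.coe_toMonoidHom, MulAut.conj_apply, map_mul, map_mul, hproj, mul_one, map_inv,
      mul_inv_cancel])
  rw [MulEquiv.coe_toMonoidHom, MulAut.conj_apply, conj_eq_one_iff] at h
  exact h

/-- The Curtis–Tits theorem. -/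
theorem curtis_tits [Finite F] (hadj : Φ.Adj) (hcox : Φ.IsCox) :
    ∃ e : D.CurtisTitsGroup F ≃* D.SteinbergGroup F, ∀ (i j r : ℕ) (t : F), D.InRankTwoSub i j r →
      e (PresentedGroup.mk (D.curtisTitsRels F) (D.stX r t)) = D.stGen F r t := by
  obtain ⟨e0, he0⟩ := Φ.cover_equiv (F := F) hadj
  let ψ0 : D.SteinbergCover F →* D.CurtisTitsGroup F :=
    PresentedGroup.toGroup (f := fun p : Fin D.nroots × F => Φ.cX p.1 p.2) (Φ.cLift_rels hadj hcox)
  let ψ : D.SteinbergGroup F →* D.CurtisTitsGroup F := ψ0.comp e0.symm.toMonoidHom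
  have hψ : ∀ (x : Fin D.nroots) (v : F), ψ (Φ.gx x v) = Φ.cX x v := by
    intro x v
    show ψ0 (e0.symm (D.stGen F x.val v)) = _
    rw [← he0, MulEquiv.symm_apply_apply, ChevalleyDatum.scGen, ChevalleyDatum.stX, dif_pos x.isLt]
    exact PresentedGroup.toGroup.of _
  have h1 : (Φ.ctTheta F).comp ψ = MonoidHom.id _ := by
    refine MonoidHom.ext fun g => Φ.gen_induction (Q := fun g => Φ.ctTheta F (ψ g) = g) (by simp)
      (fun x v y hy => by rw [map_mul, map_mul, hψ, Φ.ctTheta_cX hadj, hy]) g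
  have h2 : ψ.comp (Φ.ctTheta F) = MonoidHom.id _ := by
    refine PresentedGroup.ext fun p => ?_
    have e : PresentedGroup.of (rels := D.curtisTitsRels F) p = Φ.ctx p.1 p.2 := by
      rw [ctx, ChevalleyDatum.stX, dif_pos p.1.isLt]; rfl
    rw [MonoidHom.comp_apply, MonoidHom.id_apply, e]
    by_cases h : Φ.InR2 p.1
    · obtain ⟨i, j, hij⟩ := h
      rw [Φ.ctTheta_ctx ⟨i, j, hij⟩, hψ, Φ.cX_eq_ctx hadj hcox hij]
    · rw [Φ.ctx_eq_one h, map_one, map_one]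
  refine ⟨MonoidHom.toMulEquiv (Φ.ctTheta F) ψ h2 h1, fun i j r t h => ?_⟩
  obtain ⟨hr, a, b, -, -, hsub⟩ := Φ.exists_sub2 h
  exact Φ.ctTheta_ctx (r := ⟨r, hr⟩) ⟨a, b, hsub⟩ t

end Chev

end CfsgLib.Chev
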