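/-
Curtis–Tits: the bonds of the tabulated diagrams.
-/
import Cfsg.Agent.Lib.ChevCT.Main
import Cfsg.Agent.Lib.Chev.CoxeterD4
import Cfsg.Agent.Lib.Chev.CoxeterF4
import Cfsg.Agent.Lib.Chev.CoxeterE6
import Cfsg.Agent.Lib.Chev.CoxeterE7
import Cfsg.Agent.Lib.Chev.CoxeterE8

namespace CfsgLib.Chev

open Cfsg.Lie

set_option maxRecDepth 100000
set_option maxHeartbeats 600000

theorem coxOKD4 : chevD4.CoxOK coxD4 := by
  have key : ∀ p : Fin Cfsg.Lie.chevD4.rank × Fin Cfsg.Lie.chevD4.rank,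
      p.1 = p.2 ∨ (coxD4 p.1 p.2 = 2 ∧ chevD4.refl p.2 (chevD4.p p.1) = chevD4.p p.1) ∨
        (coxD4 p.1 p.2 = 3 ∧ chevD4.refl p.1 (chevD4.refl p.2 (chevD4.p p.1)) = chevD4.p p.2) ∨
        (coxD4 p.1 p.2 = 4 ∧
          chevD4.refl p.2 (chevD4.refl p.1 (chevD4.refl p.2 (chevD4.p p.1))) = chevD4.p p.1) := by
    decide +kernel
  exact fun i j => key (i, j)

theorem isCoxD4 : chevD4.IsCox := ⟨coxD4, coxOKD4, coxIsoD4⟩

theorem coxOKF4 : chevF4.CoxOK coxF4 := by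
  have key : ∀ p : Fin Cfsg.Lie.chevF4.rank × Fin Cfsg.Lie.chevF4.rank,
      p.1 = p.2 ∨ (coxF4 p.1 p.2 = 2 ∧ chevF4.refl p.2 (chevF4.p p.1) = chevF4.p p.1) ∨
        (coxF4 p.1 p.2 = 3 ∧ chevF4.refl p.1 (chevF4.refl p.2 (chevF4.p p.1)) = chevF4.p p.2) ∨
        (coxF4 p.1 p.2 = 4 ∧
          chevF4.refl p.2 (chevF4.refl p.1 (chevF4.refl p.2 (chevF4.p p.1))) = chevF4.p p.1) := by
    decide +kernel
  exact fun i j => key (i, j)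

theorem isCoxF4 : chevF4.IsCox := ⟨coxF4, coxOKF4, coxIsoF4⟩

theorem coxOKE6 : chevE6.CoxOK coxE6 := by
  have key : ∀ p : Fin Cfsg.Lie.chevE6.rank × Fin Cfsg.Lie.chevE6.rank,
      p.1 = p.2 ∨ (coxE6 p.1 p.2 = 2 ∧ chevE6.refl p.2 (chevE6.p p.1) = chevE6.p p.1) ∨
        (coxE6 p.1 p.2 = 3 ∧ chevE6.refl p.1 (chevE6.refl p.2 (chevE6.p p.1)) = chevE6.p p.2) ∨
        (coxE6 p.1 p.2 = 4 ∧
          chevE6.refl p.2 (chevE6.refl p.1 (chevE6.refl p.2 (chevE6.p p.1))) = chevE6.p p.1) := by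
    decide +kernel
  exact fun i j => key (i, j)

theorem isCoxE6 : chevE6.IsCox := ⟨coxE6, coxOKE6, coxIsoE6⟩

theorem coxOKE7 : chevE7.CoxOK coxE7 := by
  have key : ∀ p : Fin Cfsg.Lie.chevE7.rank × Fin Cfsg.Lie.chevE7.rank,
      p.1 = p.2 ∨ (coxE7 p.1 p.2 = 2 ∧ chevE7.refl p.2 (chevE7.p p.1) = chevE7.p p.1) ∨
        (coxE7 p.1 p.2 = 3 ∧ chevE7.refl p.1 (chevE7.refl p.2 (chevE7.p p.1)) = chevE7.p p.2) ∨
        (coxE7 p.1 p.2 = 4 ∧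
          chevE7.refl p.2 (chevE7.refl p.1 (chevE7.refl p.2 (chevE7.p p.1))) = chevE7.p p.1) := by
    decide +kernel
  exact fun i j => key (i, j)

theorem isCoxE7 : chevE7.IsCox := ⟨coxE7, coxOKE7, coxIsoE7⟩

theorem coxOKE8 : chevE8.CoxOK coxE8 := by
  have key : ∀ p : Fin Cfsg.Lie.chevE8.rank × Fin Cfsg.Lie.chevE8.rank,
      p.1 = p.2 ∨ (coxE8 p.1 p.2 = 2 ∧ chevE8.refl p.2 (chevE8.p p.1) = chevE8.p p.1) ∨
        (coxE8 p.1 p.2 = 3 ∧ chevE8.refl p.1 (chevE8.refl p.2 (chevE8.p p.1)) = chevE8.p p.2) ∨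
        (coxE8 p.1 p.2 = 4 ∧
          chevE8.refl p.2 (chevE8.refl p.1 (chevE8.refl p.2 (chevE8.p p.1))) = chevE8.p p.1) := by
    decide +kernel
  exact fun i j => key (i, j)

theorem isCoxE8 : chevE8.IsCox := ⟨coxE8, coxOKE8, coxIsoE8⟩

theorem exists_adj_cox {D : ChevalleyDatum}
    (hD : D ∈ [Cfsg.Lie.chevD4, Cfsg.Lie.chevF4, Cfsg.Lie.chevE6, Cfsg.Lie.chevE7, Cfsg.Lie.chevE8]) :
    ∃ Φ : Chev D, Φ.Adj ∧ Φ.IsCox := by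
  simp only [List.mem_cons, List.not_mem_nil, or_false] at hD
  rcases hD with rfl | rfl | rfl | rfl | rfl
  exacts [⟨chevD4, chevD4.adj_of_check adjD4, isCoxD4⟩, ⟨chevF4, chevF4.adj_of_check adjF4, isCoxF4⟩,
    ⟨chevE6, chevE6.adj_of_check adjE6, isCoxE6⟩, ⟨chevE7, chevE7.adj_of_check adjE7, isCoxE7⟩,
    ⟨chevE8, chevE8.adj_of_check adjE8, isCoxE8⟩]

end CfsgLib.Chev
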