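/-
Curtis–Tits, recognition form: coherent homomorphisms on the fundamental rank-two subgroups give a
homomorphism from the Steinberg group.
-/
import Cfsg.Agent.Lib.ChevCT.Data

namespace CfsgLib.Chev

open Cfsg.Lie Matrix

set_option linter.dupNamespace false
set_option linter.unusedSimpArgs false
set_option linter.unusedVariables false
set_option linter.unusedSectionVars false

variable {D : ChevalleyDatum}

namespace Chev

variable (Φ : Chev D) {F : Type*} [Field F]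

/-- The subgroup generated by the root subgroups of a fundamental root and its negative. -/
abbrev rk1 (_Φ : Chev D) (F : Type*) [Field F] (i : Fin D.rank) : Subgroup (GL D.Idx F) :=
  D.rootSubgroup F (D.simple i.val) ⊔ D.rootSubgroup F (D.neg (D.simple i.val))

/-- The subgroup generated by those of two fundamental roots. -/
abbrev rk2 (F : Type*) [Field F] (i j : Fin D.rank) : Subgroup (GL D.Idx F) :=
  Φ.rk1 F i ⊔ Φ.rk1 F j

theorem xg_p_mem_rk1 (i : Fin D.rank) (t : F) :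
    Φ.toAlg.xg (Φ.p i) t ∈ Φ.rk1 F i ∧ Φ.toAlg.xg (Φ.p i).rev t ∈ Φ.rk1 F i := by
  refine ⟨Subgroup.mem_sup_left ?_, Subgroup.mem_sup_right ?_⟩
  · rw [Φ.simple_val]; exact Φ.toAlg.mem_rootSubgroup.mpr ⟨t, rfl⟩
  · rw [Φ.simple_val, show D.neg (Φ.p i).val = (Φ.p i).rev.val from Φ.negIdx_eq _]
    exact Φ.toAlg.mem_rootSubgroup.mpr ⟨t, rfl⟩

theorem xg_p_mem_rk2 {i j k : Fin D.rank} (hk : k = i ∨ k = j) (t : F) :
    Φ.toAlg.xg (Φ.p k) t ∈ Φ.rk2 F i j ∧ Φ.toAlg.xg (Φ.p k).rev t ∈ Φ.rk2 F i j := by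
  rcases hk with rfl | rfl
  · exact ⟨Subgroup.mem_sup_left (Φ.xg_p_mem_rk1 _ t).1, Subgroup.mem_sup_left (Φ.xg_p_mem_rk1 _ t).2⟩
  · exact ⟨Subgroup.mem_sup_right (Φ.xg_p_mem_rk1 _ t).1, Subgroup.mem_sup_right (Φ.xg_p_mem_rk1 _ t).2⟩

theorem nw_mem_rk2 {i j k : Fin D.rank} (hk : k = i ∨ k = j) :
    Φ.nw (Φ.p k) (1 : Fˣ) ∈ Φ.rk2 F i j :=
  mul_mem (mul_mem (Φ.xg_p_mem_rk2 hk _).1 (Φ.xg_p_mem_rk2 hk _).2) (Φ.xg_p_mem_rk2 hk _).1

theorem xg_mem_rk2 {i j : Fin D.rank} :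
    ∀ r : Fin D.nroots, Φ.Sub2 i j r → ∀ c : F, Φ.toAlg.xg r c ∈ Φ.rk2 F i j := by
  have step : ∀ r k, (k = i ∨ k = j) → (∀ c : F, Φ.toAlg.xg r c ∈ Φ.rk2 F i j) →
      ∀ c : F, Φ.toAlg.xg (Φ.refl k r) c ∈ Φ.rk2 F i j := by
    intro r k hk h c
    obtain ⟨a, ha, hconj, -⟩ := (Φ.nw_one_mono (F := F) k).1 r
    have := hconj (c / a)
    rw [mul_div_cancel₀ _ ha, Φ.reflPerm_apply] at this
    rw [← this]
    exact mul_mem (mul_mem (Φ.nw_mem_rk2 hk) (h _)) (inv_mem (Φ.nw_mem_rk2 hk))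
  have key : ∀ m : ℕ, ∀ r : Fin D.nroots, r.val = m → Φ.toTables.Pos r → Φ.Sub2 i j r →
      (∀ c : F, Φ.toAlg.xg r c ∈ Φ.rk2 F i j) ∧ ∀ c : F, Φ.toAlg.xg r.rev c ∈ Φ.rk2 F i j := by
    intro m
    induction m using Nat.strong_induction_on with
    | _ m ih =>
      intro r hm hr hs
      by_cases hsimp : ∃ a, r = Φ.p a
      · obtain ⟨a, rfl⟩ := hsimp
        have hak : a = i ∨ a = j := by
          by_contra hne
          push Not at hne
          have := hs a hne.1 hne.2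
          rw [Φ.V_p, if_pos rfl] at this
          omega
        exact ⟨fun c => (Φ.xg_p_mem_rk2 hak c).1, fun c => (Φ.xg_p_mem_rk2 hak c).2⟩
      push Not at hsimp
      obtain ⟨k, hkC, hkA⟩ : ∃ k, 0 < Φ.C r k ∧ 0 < Φ.A k r := by
        by_contra hn
        push Not at hn
        have h := Φ.pair_self r
        have : ∑ k, Φ.C r k * Φ.A k r ≤ 0 := Finset.sum_nonpos fun k _ => by
          rcases (Φ.C_nonneg hr k).eq_or_lt with e | e
          · simp [← e]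
          · exact mul_nonpos_of_nonneg_of_nonpos e.le (hn k e)
        omega
      have hk : k = i ∨ k = j := by
        by_contra hne
        push Not at hne
        have := (Φ.C_eq_zero_iff r k).mpr (hs k hne.1 hne.2)
        omega
      obtain ⟨h1, h2⟩ := ih (Φ.refl k r).val (hm ▸ Φ.refl_lt hkA) _ rfl
        (Φ.refl_pos hr (hsimp k)).1 (Φ.sub2_refl hk hs)
      have e1 := step _ k hk h1
      have e2 := step _ k hk h2
      rw [Φ.refl_refl] at e1
      rw [Φ.refl_rev, Φ.refl_refl] at e2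
      exact ⟨e1, e2⟩
  intro r hr
  by_cases hp : Φ.toTables.Pos r
  · exact (key _ r rfl hp hr).1
  · have := (key _ r.rev rfl ((Φ.pos_rev_iff r).mpr hp) (Φ.sub2_rev hr)).2
    rwa [Fin.rev_rev] at this

theorem xg_mem_rk1 {a : Fin D.rank} {r : Fin D.nroots} (h : Φ.Sub2 a a r) (c : F) :
    Φ.toAlg.xg r c ∈ Φ.rk1 F a := by
  simpa only [rk2, sup_idem] using Φ.xg_mem_rk2 r h c

/-- A coherent system of homomorphisms on the fundamental rank-two subgroups. -/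
structure CohSys (F : Type*) [Field F] (G : Type*) [Group G] where
  φ : ∀ i : Fin D.rank, ↥(Φ.rk1 F i) →* G
  ψ : ∀ i j : Fin D.rank, ↥(Φ.rk2 F i j) →* G
  left : ∀ i j g (hg : g ∈ Φ.rk1 F i), ψ i j ⟨g, Subgroup.mem_sup_left hg⟩ = φ i ⟨g, hg⟩
  right : ∀ i j g (hg : g ∈ Φ.rk1 F j), ψ i j ⟨g, Subgroup.mem_sup_right hg⟩ = φ j ⟨g, hg⟩

namespace CohSys

variable {Φ} {G : Type*} [Group G] (S : Φ.CohSys F G)

theorem swap (i j : Fin D.rank) (g : GL D.Idx F) (h1 : g ∈ Φ.rk2 F i j) (h2 : g ∈ Φ.rk2 F j i) :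
    S.ψ i j ⟨g, h1⟩ = S.ψ j i ⟨g, h2⟩ := by
  have hle : Φ.rk2 F i j ≤ Φ.rk2 F j i := sup_le le_sup_right le_sup_left
  have key : Φ.rk2 F i j ≤
      ((S.ψ i j).eqLocus ((S.ψ j i).comp (Subgroup.inclusion hle))).map (Φ.rk2 F i j).subtype := by
    refine sup_le ?_ ?_
    · intro x hx
      refine ⟨⟨x, Subgroup.mem_sup_left hx⟩, ?_, rfl⟩
      show S.ψ i j ⟨x, _⟩ = S.ψ j i ⟨x, _⟩
      exact (S.left i j x hx).trans (S.right j i x hx).symm
    · intro x hx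
      refine ⟨⟨x, Subgroup.mem_sup_right hx⟩, ?_, rfl⟩
      show S.ψ i j ⟨x, _⟩ = S.ψ j i ⟨x, _⟩
      exact (S.right i j x hx).trans (S.left j i x hx).symm
  obtain ⟨y, hy, hye⟩ := key h1
  obtain rfl : y = ⟨g, h1⟩ := Subtype.ext hye
  exact hy

theorem on_line {i j a : Fin D.rank} (ha : a = i ∨ a = j) {r : Fin D.nroots} (hr : Φ.Sub2 a a r)
    (t : F) (hmem : Φ.toAlg.xg r t ∈ Φ.rk2 F i j) :
    S.ψ i j ⟨_, hmem⟩ = S.φ a ⟨_, Φ.xg_mem_rk1 hr t⟩ := by
  rcases ha with rfl | rfl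
  · exact S.left _ _ _ (Φ.xg_mem_rk1 hr t)
  · exact S.right _ _ _ (Φ.xg_mem_rk1 hr t)

theorem well_def {i j i' j' : Fin D.rank} {r : Fin D.nroots} (h : Φ.Sub2 i j r) (h' : Φ.Sub2 i' j' r)
    (t : F) :
    S.ψ i j ⟨_, Φ.xg_mem_rk2 r h t⟩ = S.ψ i' j' ⟨_, Φ.xg_mem_rk2 r h' t⟩ := by
  by_cases hl : ∃ a, Φ.Sub2 a a r
  · obtain ⟨a, ha⟩ := hl
    have hne : Φ.V r a ≠ 0 := by
      intro h0
      obtain ⟨π, hπ, b, hb⟩ := Φ.exists_to_simple r
      have hz : ∀ k, Φ.V r k = 0 := fun k => by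
        by_cases hk : k = a
        · rw [hk, h0]
        · exact ha k hk hk
      have := Φ.W_lin hπ r b
      rw [hb, Φ.V_p, if_pos rfl] at this
      simp [hz] at this
    have m : a = i ∨ a = j := by
      by_contra hc; push Not at hc; exact hne (h a hc.1 hc.2)
    have m' : a = i' ∨ a = j' := by
      by_contra hc; push Not at hc; exact hne (h' a hc.1 hc.2)
    rw [S.on_line m ha t, S.on_line m' ha t]
  push Not at hl
  have hi : Φ.V r i ≠ 0 := by
    intro h0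
    refine hl j fun k hk hk' => ?_
    by_cases e : k = i
    · rw [e, h0]
    · exact h k e hk
  have hj : Φ.V r j ≠ 0 := by
    intro h0
    refine hl i fun k hk hk' => ?_
    by_cases e : k = j
    · rw [e, h0]
    · exact h k hk e
  have hij : i ≠ j := fun e => hl i (by subst e; exact h)
  have mi : i = i' ∨ i = j' := by
    by_contra hc; push Not at hc; exact hi (h' i hc.1 hc.2)
  have mj : j = i' ∨ j = j' := by
    by_contra hc; push Not at hc; exact hj (h' j hc.1 hc.2)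
  rcases mi with rfl | rfl <;> rcases mj with rfl | rfl
  · exact absurd rfl hij
  · rfl
  · exact S.swap _ _ _ _ _
  · exact absurd rfl hij

open Classical in
/-- The images of the generators. -/
noncomputable def val (p : Fin D.nroots × F) : G :=
  if h : ∃ q : Fin D.rank × Fin D.rank, Φ.Sub2 q.1 q.2 p.1 then
    S.ψ h.choose.1 h.choose.2 ⟨_, Φ.xg_mem_rk2 p.1 h.choose_spec p.2⟩ else 1

theorem val_eq {i j : Fin D.rank} {r : Fin D.nroots} (h : Φ.Sub2 i j r) (t : F) :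
    S.val (r, t) = S.ψ i j ⟨_, Φ.xg_mem_rk2 r h t⟩ := by
  have hex : ∃ q : Fin D.rank × Fin D.rank, Φ.Sub2 q.1 q.2 r := ⟨(i, j), h⟩
  unfold val
  rw [dif_pos hex]
  exact S.well_def hex.choose_spec h t

theorem lift_one {i j : Fin D.rank} {w : FreeGroup (Fin D.nroots × F)}
    (hw : w ∈ Subgroup.closure {x | ∃ r t, Φ.Sub2 i j r ∧ FreeGroup.of (r, t) = x})
    (h1 : FreeGroup.lift (fun p : Fin D.nroots × F => Φ.toAlg.xg p.1 p.2) w = 1) :
    FreeGroup.lift S.val w = 1 := by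
  have key : ∀ x ∈ Subgroup.closure {x | ∃ r t, Φ.Sub2 i j r ∧ FreeGroup.of (r, t) = x},
      ∃ h : FreeGroup.lift (fun p : Fin D.nroots × F => Φ.toAlg.xg p.1 p.2) x ∈ Φ.rk2 F i j,
        FreeGroup.lift S.val x = S.ψ i j ⟨_, h⟩ := by
    intro x hx
    induction hx using Subgroup.closure_induction with
    | mem y hy =>
      obtain ⟨r, t, hr, rfl⟩ := hy
      simp only [FreeGroup.lift_apply_of]
      exact ⟨Φ.xg_mem_rk2 r hr t, S.val_eq hr t⟩
    | one => simp only [map_one]; exact ⟨one_mem _, (map_one (S.ψ i j)).symm⟩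
    | mul a b _ _ ha hb =>
      obtain ⟨h, e⟩ := ha
      obtain ⟨h', e'⟩ := hb
      simp only [map_mul, e, e']
      exact ⟨mul_mem h h', (map_mul (S.ψ i j) _ _).symm⟩
    | inv a _ ha =>
      obtain ⟨h, e⟩ := ha
      simp only [map_inv, e]
      exact ⟨inv_mem h, (map_inv (S.ψ i j) _).symm⟩
  obtain ⟨h, e⟩ := key w hw
  rw [e]
  exact (congrArg (S.ψ i j) (Subtype.ext h1 : (⟨_, h⟩ : ↥(Φ.rk2 F i j)) = 1)).trans (map_one _)

theorem rels : ∀ w ∈ D.curtisTitsRels F, FreeGroup.lift S.val w = 1 := by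
  have hX : ∀ {i j : Fin D.rank} {r : Fin D.nroots} (t : F), Φ.Sub2 i j r →
      D.stX r.val t ∈ Subgroup.closure {x | ∃ r t, Φ.Sub2 i j r ∧ FreeGroup.of (r, t) = x} := by
    intro i j r t h
    refine Subgroup.subset_closure ⟨r, t, h, ?_⟩
    simp [ChevalleyDatum.stX]
  have hW : ∀ {i j : Fin D.rank} (L : List (ℕ × F)),
      (∀ p ∈ L, ∃ hp : p.1 < D.nroots, Φ.Sub2 i j ⟨p.1, hp⟩) →
      D.stWord L ∈ Subgroup.closure {x | ∃ r t, Φ.Sub2 i j r ∧ FreeGroup.of (r, t) = x} := by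
    intro i j L hL
    rw [ChevalleyDatum.stWord]
    refine Subgroup.list_prod_mem _ fun g hg => ?_
    obtain ⟨p, hp, rfl⟩ := List.mem_map.mp hg
    obtain ⟨hlt, hS⟩ := hL p hp
    exact hX (r := ⟨p.1, hlt⟩) p.2 hS
  rintro w (((⟨r, t, hr, hno, rfl⟩ | ⟨i, j, r, a, b, hij, rfl⟩) |
      ⟨i, j, r, s, t, u, h1, h2, hne, hneg, rfl⟩) | ⟨i, j, r, a, b, hij, ha, hb, rfl⟩)
  · rw [ChevalleyDatum.stX, dif_pos hr, FreeGroup.lift_apply_of, val, dif_neg]
    rintro ⟨q, h⟩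
    exact hno q.1.val q.2.val ((Φ.inRankTwo_iff q.1 q.2 ⟨r, hr⟩).mpr h)
  · obtain ⟨hr, x, y, -, -, hsub⟩ := Φ.exists_sub2 hij
    refine S.lift_one (i := x) (j := y) ?_ (Φ.rels_lift _ (Or.inl (Or.inl ⟨r, a, b, hr, rfl⟩)))
    exact mul_mem (mul_mem (hX (r := ⟨r, hr⟩) _ hsub) (hX (r := ⟨r, hr⟩) _ hsub))
      (inv_mem (hX (r := ⟨r, hr⟩) _ hsub))
  · obtain ⟨hr, x, y, hx, hy, hsr⟩ := Φ.exists_sub2 h1
    obtain ⟨hs, x', y', hx', hy', hss⟩ := Φ.exists_sub2 h2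
    obtain rfl : x = x' := Fin.ext (hx.trans hx'.symm)
    obtain rfl : y = y' := Fin.ext (hy.trans hy'.symm)
    refine S.lift_one (i := x) (j := y) ?_
      (Φ.rels_lift _ (Or.inl (Or.inr ⟨r, s, t, u, hr, hs, hne, hneg, rfl⟩)))
    refine mul_mem (mul_mem (mul_mem (mul_mem (inv_mem (hX (r := ⟨s, hs⟩) _ hss))
      (inv_mem (hX (r := ⟨r, hr⟩) _ hsr))) (hX (r := ⟨s, hs⟩) _ hss)) (hX (r := ⟨r, hr⟩) _ hsr))
      (inv_mem (hW _ fun p hp => ?_))
    simp only [ChevalleyDatum.commWord, List.mem_map] at hp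
    obtain ⟨d, hd, rfl⟩ := hp
    exact Φ.commTerms_sub2 (r := ⟨r, hr⟩) (s := ⟨s, hs⟩) hsr hss hd
  · obtain ⟨hr, x, y, -, -, hsub⟩ := Φ.exists_sub2 hij
    refine S.lift_one (i := x) (j := y) ?_ (Φ.rels_lift _ (Or.inr ⟨r, a, b, hr, ha, hb, rfl⟩))
    have hn : D.neg r = (Fin.rev ⟨r, hr⟩ : Fin D.nroots).val := Φ.negIdx_eq ⟨r, hr⟩
    have hh : ∀ c : F, D.stH r c ∈
        Subgroup.closure {z | ∃ r t, Φ.Sub2 x y r ∧ FreeGroup.of (r, t) = z} := fun c => by
      refine hW _ fun p hp => ?_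
      simp only [ChevalleyDatum.hWord, ChevalleyDatum.nWord, hn, List.cons_append, List.nil_append,
        List.mem_cons, List.not_mem_nil, or_false] at hp
      rcases hp with rfl | rfl | rfl | rfl | rfl | rfl
      exacts [⟨hr, hsub⟩, ⟨Fin.isLt _, Φ.sub2_rev hsub⟩, ⟨hr, hsub⟩, ⟨hr, hsub⟩,
        ⟨Fin.isLt _, Φ.sub2_rev hsub⟩, ⟨hr, hsub⟩]
    exact mul_mem (mul_mem (hh _) (hh _)) (inv_mem (hh _))

/-- Coherent homomorphisms whose images generate give a surjection from the Steinberg group. -/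
theorem exists_st_hom [Finite F] (hadj : Φ.Adj) (hcox : Φ.IsCox)
    (hgen : ⨆ i, (S.φ i).range = ⊤) :
    ∃ f : D.SteinbergGroup F →* G, Function.Surjective f := by
  obtain ⟨e, he⟩ := Φ.curtis_tits (F := F) hadj hcox
  let f1 : D.CurtisTitsGroup F →* G := PresentedGroup.toGroup (f := S.val) S.rels
  refine ⟨f1.comp e.symm.toMonoidHom, ?_⟩
  have hf1 : Function.Surjective f1 := by
    rw [← MonoidHom.range_eq_top, eq_top_iff, ← hgen]
    refine iSup_le fun i => ?_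
    have key : Φ.rk1 F i ≤ (f1.range.comap (S.φ i)).map (Φ.rk1 F i).subtype := by
      have h1 : ∀ r (hr : Φ.Sub2 i i r) (t : F),
          f1 (Φ.ctx r t) = S.φ i ⟨_, Φ.xg_mem_rk1 hr t⟩ := by
        intro r hr t
        rw [ctx, ChevalleyDatum.stX, dif_pos r.isLt]
        refine (PresentedGroup.toGroup.of _).trans ?_
        rw [S.val_eq hr t]
        exact S.left i i _ (Φ.xg_mem_rk1 hr t)
      refine sup_le ?_ ?_
      · intro g hg
        rw [Φ.simple_val, Φ.toAlg.mem_rootSubgroup] at hg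
        obtain ⟨t, rfl⟩ := hg
        exact ⟨⟨_, Φ.xg_mem_rk1 (Φ.sub2_p_left i i) t⟩, ⟨_, h1 _ (Φ.sub2_p_left i i) t⟩, rfl⟩
      · intro g hg
        rw [Φ.simple_val, show D.neg (Φ.p i).val = (Φ.p i).rev.val from Φ.negIdx_eq _,
          Φ.toAlg.mem_rootSubgroup] at hg
        obtain ⟨t, rfl⟩ := hg
        have hr := Φ.sub2_rev (Φ.sub2_p_left i i)
        exact ⟨⟨_, Φ.xg_mem_rk1 hr t⟩, ⟨_, h1 _ hr t⟩, rfl⟩
    rintro _ ⟨⟨g, hg⟩, rfl⟩
    obtain ⟨y, hy, hye⟩ := key hg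
    obtain rfl : y = ⟨g, hg⟩ := Subtype.ext hye
    exact hy
  exact hf1.comp e.symm.surjective

end CohSys

/-- A surjection from the Steinberg group gives one between the central quotients. -/
theorem exists_quot_hom (hadj : Φ.Adj) {G : Type*} [Group G] (f : D.SteinbergGroup F →* G)
    (hf : Function.Surjective f) :
    ∃ g : (↥(D.group F) ⧸ Subgroup.center ↥(D.group F)) →* (G ⧸ Subgroup.center G),
      Function.Surjective g := by
  let pr : D.SteinbergGroup F →* ↥(D.group F) := (Φ.proj F).codRestrict _ Φ.proj_mem_group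
  have hpr : Function.Surjective pr := by
    rintro ⟨x, hx⟩
    have hx' : x ∈ (Φ.proj F).range := by
      rw [Φ.toAlg.group_eq] at hx
      refine (Subgroup.closure_le _).mpr ?_ hx
      rintro _ ⟨r, t, rfl⟩
      exact ⟨_, Φ.proj_gx r t⟩
    obtain ⟨y, rfl⟩ := hx'
    exact ⟨y, rfl⟩
  let q : D.SteinbergGroup F →* ↥(D.group F) ⧸ Subgroup.center ↥(D.group F) :=
    (QuotientGroup.mk' _).comp pr
  have hq : Function.Surjective q := (QuotientGroup.mk'_surjective _).comp hpr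
  let f' : D.SteinbergGroup F →* G ⧸ Subgroup.center G := (QuotientGroup.mk' _).comp f
  have hf' : Function.Surjective f' := (QuotientGroup.mk'_surjective _).comp hf
  have hk : q.ker ≤ f'.ker := by
    intro a ha
    simp only [q, MonoidHom.mem_ker, MonoidHom.comp_apply, QuotientGroup.mk'_apply,
      QuotientGroup.eq_one_iff] at ha
    have h1 : Φ.proj F a = 1 := Φ.center_group _ (Φ.proj_mem_group a) fun g hg =>
      congrArg Subtype.val (Subgroup.mem_center_iff.mp ha ⟨g, hg⟩).symm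
    have hc : a ∈ Subgroup.center (D.SteinbergGroup F) := by
      rw [← Φ.ker_proj_eq_center (F := F) hadj]; exact h1
    simp only [f', MonoidHom.mem_ker, MonoidHom.comp_apply, QuotientGroup.mk'_apply,
      QuotientGroup.eq_one_iff, Subgroup.mem_center_iff]
    intro y
    obtain ⟨b, rfl⟩ := hf y
    rw [← map_mul, ← map_mul, Subgroup.mem_center_iff.mp hc b]
  refine ⟨MonoidHom.liftOfSurjective q hq ⟨f', hk⟩, fun y => ?_⟩
  obtain ⟨a, rfl⟩ := hf' y
  exact ⟨q a, MonoidHom.liftOfRightInverse_comp_apply _ _ _ ⟨f', hk⟩ a⟩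

end Chev

end CfsgLib.Chev
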